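import Cfsg.Agent.Omega.NO1.Field.RPlus
import Cfsg.Agent.Omega.NOne.Flat.KillMu

/-!
# FIELD-5, end: no `SzR` over a FLAT frame (helper659's kill with `NN = 1` and (MU) inserted)
-/

set_option autoImplicit false

namespace Cfsg.Agent.Omega.NO1.Field

open Subgroup Cfsg

universe u

variable {G : Type u} [Group G] [Finite G] {V F : Subgroup G}

theorem HypF.nnOne (h : HypF V F) : NOne.Flat.NNOne V F := fun n hn h1 h2 =>
  h.nn hn h1 fun e he => by
    rw [NOne.NearFF.c_def, h2 e he]
    group

/-- **no `SzR` over a FLAT frame** -/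
theorem HypF.no_szR (h : HypF V F) {K R D : Subgroup G} (z : NOne.Flat.SzR V F K R D) : False :=
  z.false_of h.toHyp h.nnOne h.noffM

end Cfsg.Agent.Omega.NO1.Field
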