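import Cfsg.Agent.Omega.NO1.Field.FZero
import Cfsg.Prelude.Def_Exceptional

/-!
# THEOREM FIELD for FLAT frames: literal targets (TCARD of N1-ONE)

* `HypF V F` : `Hyp V F`, no offender on `V` in module form, (F0);  `Fr.hypF`;
* FIELD-1 `SESpr` : LEMMA SE #16297 for `Spr` ;
* FIELD-2 : `K1` from `O3` (868) ;
* FIELD-4 `SzOut` : CLAIM A of THEOREM SZ ;
* FIELD-3 `NNOne`, `RPlus` ; FIELD-5 `NoSz` ; FIELD-6 `K1All`.
-/

set_option autoImplicit false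
set_option linter.unusedSectionVars false

namespace Cfsg.Agent.Omega.NO1.Field

open Subgroup Cfsg Cfsg.Agent.ZN Cfsg.Agent.Omega.MinPar Cfsg.Agent.Omega.Frame
open Cfsg.Agent.Omega.FFThm (OffM)
open Cfsg.Agent.Omega.NOne.NearFF (c)
open Cfsg.Agent.Omega.NOne.Flat (Hyp BadX Sect EX HX Spr gi)
open scoped Pointwise

universe u

/-- The FLAT frame with (F0) and no offender in module form. -/
structure HypF {G : Type u} [Group G] (V F : Subgroup G) : Prop extends Hyp V F where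
  noffM : ∀ A : Subgroup G, A ≤ normalizer (V : Set G) → ¬ OffM V A
  f0 : ∀ D : Subgroup G, D ≤ V → ∀ y ∈ normalizer (D : Set G),
    ∃ c ∈ centralizer (D : Set G), ∃ m ∈ normalizer (V : Set G), y = c * m

theorem _root_.Cfsg.Agent.Omega.NO1.Fr.hypF {G : Type u} [Group G] [Finite G] {S : Sylow 2 G} {P M F : Subgroup G}
    (h : Fr S P M F) : HypF (zl (S : Subgroup G) M) F where
  toHyp := h.hyp
  noffM := h.noffV
  f0 D hD y hy := by
    obtain ⟨c, hc, m, hm, e⟩ := h.inv.exists_mul hD hy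
    exact ⟨c, hc, m, MinSimple.VModule.le_normalizer_zl (S : Subgroup G) M hm, e⟩

/-- (F0) in the form of `Hyp.exists_spr`. -/
theorem HypF.f0' {G : Type u} [Group G] {V F : Subgroup G} (h : HypF V F) :
    ∀ y ∈ centralizer (F : Set G), MulAut.conj y • NOne.Flat.EE V F = NOne.Flat.EE V F →
      ∃ z ∈ centralizer (NOne.Flat.EE V F : Set G), MulAut.conj y • V = MulAut.conj z • V := by
  intro y _ hyE
  have hy : y ∈ normalizer (NOne.Flat.EE V F : Set G) := by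
    rw [mem_normalizer_iff]
    intro x
    constructor
    · intro hx
      have h1 : y * x * y⁻¹ ∈ MulAut.conj y • NOne.Flat.EE V F := NoFF.Basic.mem_conj.2 (by
        have e : y⁻¹ * (y * x * y⁻¹) * y = x := by group
        rwa [e])
      rwa [hyE] at h1
    · intro hx
      rw [← hyE, NoFF.Basic.mem_conj] at hx
      have e : y⁻¹ * (y * x * y⁻¹) * y = x := by group
      rwa [e] at hx
  obtain ⟨c, hc, m, hm, rfl⟩ := h.f0 (NOne.Flat.EE V F) (show V ⊓ o2 (centralizer (F : Set G)) ≤ V from inf_le_left) y hy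
  refine ⟨c, hc, ?_⟩
  rw [map_mul, mul_smul, NOne.Flat.conj_eq_of_norm hm]

/-- `L ≅ Sz(q)` -/
def IsSz (L : Type u) [Group L] (q : ℕ) : Prop :=
  Cfsg.Lie.IsoSuzuki L ∧ Nat.card L = q ^ 2 * (q ^ 2 + 1) * (q - 1)

/-- `(O3)` of #20083. -/
def O3 {M : Type u} [Group M] (A : Bool → Subgroup (MulAut M)) : Prop :=
  ∀ t ∈ A false, t ≠ 1 → ∃ v ∈ A true, v ≠ 1 ∧ (t * v) ^ 3 = 1

/-- **FIELD-1** (LEMMA SE #16297 for 970's `Spr`). -/
def SESpr : Prop :=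
  ∀ (M : Type u) [Group M] [Finite M] (B : Bool → Subgroup M) (A : Bool → Subgroup (MulAut M)),
    Spr B A → 4 ≤ Nat.card (A false) → O3 A ∨ IsSz ↥(A false ⊔ A true) (Nat.card (A false))

/-- **FIELD-4** (CLAIM A of THEOREM SZ): `T` the Sylow 2-subgroup of `N_L(A₀)`, `A₀ = Z(T)`, `K = C_{B₀}(T) = [B₀, T]`. -/
def SzOut : Prop :=
  ∀ (M : Type u) [Group M] [Finite M] (B : Bool → Subgroup M) (A : Bool → Subgroup (MulAut M)),
    Spr B A → 4 ≤ Nat.card (A false) → IsSz ↥(A false ⊔ A true) (Nat.card (A false)) →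
      ∃ (T : Subgroup (MulAut M)) (K : Subgroup M), A false ≤ T ∧ T ≤ A false ⊔ A true ∧
        Nat.card T = Nat.card (A false) ^ 2 ∧ (∀ t ∈ T, ∀ a ∈ A false, t * a = a * t) ∧
        (∀ t ∈ T, ∀ m ∈ B false, t m ∈ B false) ∧ K ≤ B false ∧ Nat.card K ^ 2 = Nat.card (B false) ∧
        (∀ t ∈ T, ∀ m ∈ B false, t m * m⁻¹ ∈ K) ∧ (∀ t ∈ T, ∀ m ∈ K, t m = m) ∧
        (∀ t ∈ T, (∀ m ∈ B false, t m = m) → t ∈ A false)

/-- **FIELD-3b** (#20083 (A)): `N_G(V) ∩ C_G(F)` is transitive on `(V / E)#`; `NN = 1`. -/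
def NNOne : Prop :=
  ∀ (G : Type u) [Group G] [Finite G] (V F : Subgroup G), HypF V F →
    (∀ v ∈ V, v ∉ NOne.Flat.EE V F → ∀ w ∈ V, w ∉ NOne.Flat.EE V F →
      ∃ h ∈ centralizer (F : Set G) ⊓ normalizer (V : Set G), (h * v * h⁻¹)⁻¹ * w ∈ NOne.Flat.EE V F) ∧
    ∀ g ∈ normalizer (V : Set G), (∀ v ∈ V, c v g ∈ F) → (∀ e ∈ NOne.Flat.EE V F, c e g = 1) →
      g ∈ centralizer (V : Set G)

/-- **FIELD-3c**: (R+) of #16754, no field. -/
def RPlus : Prop :=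
  ∀ (G : Type u) [Group G] [Finite G] (V F : Subgroup G), HypF V F →
    ∀ g ∈ normalizer (V : Set G), (∀ v ∈ V, c v g ∈ NOne.Flat.EE V F) → (∀ e ∈ NOne.Flat.EE V F, c e g ∈ F) →
      (∀ f ∈ F, c f g = 1) → g ∈ NOne.Flat.WW V F ⊔ centralizer (V : Set G)

/-- **FIELD-5**: THEOREM SZ. -/
def NoSz : Prop :=
  ∀ (G : Type u) [Group G] [Finite G] (V F : Subgroup G), HypF V F → 4 ≤ (NOne.Flat.EE V F).relIndex V →
    ∀ x ∈ centralizer (F : Set G), BadX V x →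
    ∀ (N : Type u) [Group N] (s : Sect (HX V F x) (EX V F x) F N),
      ¬ IsSz ↥(s.A V ⊔ s.A (MulAut.conj x • V)) ((NOne.Flat.EE V F).relIndex V)

/-- **FIELD-6**: `K1` of #19210: for `e ∈ E - F` a subgroup `A₁` of `W`, `|A₁ / N| = |V / E|`, `[V, A₁, A₁] = 1`,
`e ∈ [v, s] F` for every `s ∈ A₁ - N` and some `v ∈ V - E`. -/
structure K1 {G : Type u} [Group G] (V F : Subgroup G) (e : G) (A₁ : Subgroup G) : Prop where
  NA : NOne.Flat.NN V F ≤ A₁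
  AW : A₁ ≤ NOne.Flat.WW V F
  card : (NOne.Flat.NN V F).relIndex A₁ = (NOne.Flat.EE V F).relIndex V
  quad : ∀ v ∈ V, ∀ s ∈ A₁, ∀ t ∈ A₁, c (c v s) t = 1
  ex : ∀ s ∈ A₁, s ∉ NOne.Flat.NN V F → ∃ v ∈ V, v ∉ NOne.Flat.EE V F ∧ (c v s)⁻¹ * e ∈ F
  /-- the image of `A₁` under `[v, ·]` does not depend on `v` -/
  line : ∀ v ∈ V, ∀ w ∈ V, w ∉ NOne.Flat.EE V F → ∀ s ∈ A₁, ∃ t ∈ A₁, (c v s)⁻¹ * c w t ∈ F

/-- **FIELD-6** -/
def K1All : Prop :=
  ∀ (G : Type u) [Group G] [Finite G] (V F : Subgroup G), HypF V F → ∀ e ∈ NOne.Flat.EE V F, e ∉ F →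
    ∃ A₁ : Subgroup G, K1 V F e A₁

end Cfsg.Agent.Omega.NO1.Field
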