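import Cfsg.Agent.Omega.NO1.Fr
import Cfsg.Agent.Omega.NOne.Flat.Field1

/-!
# THEOREM FIELD (#15909), (F0)

* `Inv.exists_mul` : `y ∈ N_G(D)`, `D ≤ V`: `y = c m`, `c ∈ C_G(D)`, `m ∈ M`;
* `Inv.exists_cent` : `V^y = V^c`, `c ∈ C_G(D)`;
* `Fr.exists_spr` : the instance of `Spr` of (F1), (F2) for a frame.
-/

set_option autoImplicit false
set_option linter.unusedSectionVars false

namespace Cfsg.Agent.Omega.NO1

open Subgroup Cfsg Cfsg.Agent.ZN Cfsg.Agent.Omega.MinPar Cfsg.Agent.Omega.Frame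
open Cfsg.Agent.ZN.ChoiceBase (cj mem_cj cj_mono cj_one cj_cj cj_inv_cj cj_cj_inv cj_le_iff card_cj
  mem_normalizer_iff_cj cj_eq_of_mem_normalizer mem_normalizer_of_cj_le isPGroup_cj cj_inf cj_normalizer
  cj_centralizer)
open Cfsg.Agent.ZN.ChoiceSit (Syl syl_conj exists_syl)
open Cfsg.Agent.Omega.NOne.Flat (Hyp BadX Sect EX HX Spr gi)
open scoped Pointwise

universe u

variable {G : Type u} [Group G] [Finite G] {S : Sylow 2 G} {P M F : Subgroup G}

/-- **(F0)** `N_G(D) ≤ C_G(D) M` for `D ≤ V`. -/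
theorem JMin.Inv.exists_mul (h : JMin.Inv (S : Subgroup G) P M) {D : Subgroup G} (hD : D ≤ zl (S : Subgroup G) M)
    {y : G} (hy : y ∈ normalizer (D : Set G)) : ∃ c ∈ centralizer (D : Set G), ∃ m ∈ M, y = c * m := by
  obtain ⟨T, hT⟩ := JMin.exists_syl_of (M ⊓ centralizer (D : Set G))
  have hT' := h.syl hD hT
  have h1 : Syl (cj y T) (centralizer (D : Set G)) := by
    have h2 := JMin.syl_cj hT' y
    rwa [cj_centralizer, cj_eq_of_mem_normalizer hy] at h2
  obtain ⟨c, hc, hc'⟩ := syl_conj hT' h1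
  refine ⟨c, hc, c⁻¹ * y, ?_, by group⟩
  apply h.normalizer_le hD hT
  rw [mem_normalizer_iff_cj, ← cj_cj, ← hc', cj_inv_cj]

/-- **(F0)** -/
theorem JMin.Inv.exists_cent (h : JMin.Inv (S : Subgroup G) P M) {D : Subgroup G}
    (hD : D ≤ zl (S : Subgroup G) M) {y : G} (hy : y ∈ normalizer (D : Set G)) :
    ∃ c ∈ centralizer (D : Set G), MulAut.conj y • zl (S : Subgroup G) M = MulAut.conj c • zl (S : Subgroup G) M := by
  obtain ⟨c, hc, m, hm, rfl⟩ := h.exists_mul hD hy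
  refine ⟨c, hc, ?_⟩
  rw [map_mul, mul_smul, NOne.Flat.conj_eq_of_norm (MinSimple.VModule.le_normalizer_zl (S : Subgroup G) M hm)]

/-- **(F1), (F2) for a frame**: the instance of `Spr` on `E E^x / F`. -/
theorem Fr.exists_spr (h : Fr S P M F) {x : G} (hx : x ∈ centralizer (F : Set G))
    (hb : BadX (zl (S : Subgroup G) M) x) {N : Type u} [Group N]
    (s : Sect (HX (zl (S : Subgroup G) M) F x) (EX (zl (S : Subgroup G) M) F x) F N) :
    Spr (fun i => s.B (MulAut.conj (gi x i) • NOne.Flat.EE (zl (S : Subgroup G) M) F))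
      (fun i => s.A (MulAut.conj (gi x i) • zl (S : Subgroup G) M)) := by
  refine h.hyp.exists_spr hx hb (fun y _ hyE => ?_) s
  refine h.inv.exists_cent (D := NOne.Flat.EE (zl (S : Subgroup G) M) F) inf_le_left ?_
  rw [mem_normalizer_iff_cj]
  exact hyE

end Cfsg.Agent.Omega.NO1
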