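import Cfsg.Agent.Omega.NO1.Field.SL2T

/-!
# The SL₂ type over `Spr`: the subgroups `{[b, u] : u ∈ A true}`

* `KK A i b`, `card_KK`;
* `SL2T.exists_t` : `k ∈ KK A true b`, `k ≠ 1`: `[k, t] = b`, `t ∈ A false`;
* `SL2T.closure` : `k, k' ∈ KK A true b`, `t ∈ A false`, `[k', t] ≠ 1`: `k ∈ KK A true [k', t]`;
* `SL2T.line` : `[k, v] = [k', w]` for some `k' ∈ KK A true b`.
-/

set_option autoImplicit false

namespace Cfsg.Agent.Omega.NO1.Field

open Subgroup Cfsg.Agent.Omega.NOne.Flat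

section spr

variable {M : Type*} [Group M] {B : Bool → Subgroup M} {A : Bool → Subgroup (MulAut M)} (S : Spr B A)

/-- `{[b, a] : a ∈ A i}` -/
def KK (S : Spr B A) (i : Bool) (b : M) : Subgroup M where
  carrier := {k | ∃ a ∈ A i, k = a b * b}
  one_mem' := ⟨1, one_mem _, by rw [MulAut.one_apply, S.sq]⟩
  mul_mem' := by
    rintro _ _ ⟨a, ha, rfl⟩ ⟨a', ha', rfl⟩
    refine ⟨a * a', mul_mem ha ha', ?_⟩
    have h1 : a' b * b ∈ B i := by
      have := S.into i a' ha' b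
      rwa [Spr.m_inv S] at this
    have h3 : a (a' b) = a' b * b * a b := by
      calc a (a' b) = a (a' b * b * b) := by rw [mul_assoc, S.sq, mul_one]
        _ = a' b * b * a b := by rw [map_mul, S.fix i a ha _ h1]
    rw [MulAut.mul_apply, h3]
    calc a b * b * (a' b * b) = a' b * b * (a b * b) := S.comm _ _
      _ = _ := by group
  inv_mem' := by
    rintro _ ⟨a, ha, rfl⟩
    exact ⟨a, ha, Spr.m_inv S _⟩

include S

theorem mem_KK {i : Bool} {b k : M} : k ∈ KK S i b ↔ ∃ a ∈ A i, k = a b * b := Iff.rfl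

theorem comm_mem_B {i : Bool} {a : MulAut M} (ha : a ∈ A i) (b : M) : a b * b ∈ B i := by
  have := S.into i a ha b
  rwa [Spr.m_inv S] at this

theorem KK_le (i : Bool) (b : M) : KK S i b ≤ B i := by
  rintro _ ⟨a, ha, rfl⟩
  exact comm_mem_B S ha b

/-- `|{[b, a]}| = |A i|` for `b ∉ B i` -/
theorem card_KK {i : Bool} {b : M} (hb : b ∉ B i) : Nat.card (KK S i b) = Nat.card (A i) := by
  refine (Nat.card_congr (Equiv.ofBijective (fun a : A i => (⟨(a : MulAut M) b * b, a, a.2, rfl⟩ : KK S i b))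
    ⟨?_, ?_⟩)).symm
  · intro a a' haa
    have h1 : (a : MulAut M) b * b = (a' : MulAut M) b * b := congrArg Subtype.val haa
    have h2 := mul_right_cancel h1
    apply Subtype.ext
    by_contra hne
    apply hb
    have h3 : (a : MulAut M) * (a' : MulAut M) ∈ A i := mul_mem a.2 a'.2
    refine S.free i _ h3 (fun h4 => hne ?_) b ?_
    · have h5 := eq_inv_of_mul_eq_one_left h4
      rwa [Spr.A_inv S a'.2] at h5
    · rw [MulAut.mul_apply, ← h2, Spr.apply_apply S a.2]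
  · rintro ⟨_, a, ha, rfl⟩
    exact ⟨⟨a, ha⟩, rfl⟩

end spr

namespace SL2T

variable {M : Type*} [Group M] [Finite M] {B : Bool → Subgroup M} {A : Bool → Subgroup (MulAut M)}
  (S : Spr B A) (h : SL2T B A)
include S h

/-- the element of `J` over `u ∈ A true` -/
theorem exists_J_true {u : MulAut M} (hu : u ∈ A true) (hu1 : u ≠ 1) :
    ∃ s ∈ JJ A, ∀ b ∈ B false, s b = u b * b := by
  obtain ⟨t, ht, ht1, h3⟩ := SL2T.o3' S h u hu hu1
  exact ⟨t * u * t, ⟨t, ht, ht1, u, hu, h3, rfl⟩, fun b hb => Spr.JJ_false S ht ht1 hu h3 hb⟩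

omit [Finite M] in
/-- the element of `J` over `t ∈ A false` -/
theorem exists_J_false {t : MulAut M} (ht : t ∈ A false) (ht1 : t ≠ 1) :
    ∃ s ∈ JJ A, ∀ m ∈ B true, s m = t m * m := by
  obtain ⟨u, hu, h3⟩ := h.o3 t ht ht1
  exact ⟨t * u * t, ⟨t, ht, ht1, u, hu, h3, rfl⟩, fun b hb => Spr.JJ_true S ht ht1 hu h3 hb⟩

omit h [Finite M] in
/-- an element of `J` is `[·, u]` on `B false` -/
theorem exists_u {s : MulAut M} (hs : s ∈ JJ A) : ∃ u ∈ A true, u ≠ 1 ∧ ∀ b ∈ B false, s b = u b * b := by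
  obtain ⟨t, ht, ht1, u, hu, h3, rfl⟩ := hs
  exact ⟨u, hu, Spr.pair_ne S ht ht1 h3 hu, fun b hb => Spr.JJ_false S ht ht1 hu h3 hb⟩

/-- `k ∈ {[b, u]}`, `k ≠ 1`: `[k, t] = b` -/
theorem exists_t {b k : M} (hb : b ∈ B false) (hk : k ∈ KK S true b) (hk1 : k ≠ 1) :
    ∃ t ∈ A false, t ≠ 1 ∧ t k * k = b := by
  obtain ⟨u, hu, rfl⟩ := hk
  have hu1 : u ≠ 1 := by
    rintro rfl
    apply hk1
    rw [MulAut.one_apply, S.sq]
  obtain ⟨t, ht, ht1, h3⟩ := SL2T.o3' S h u hu hu1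
  refine ⟨t, ht, ht1, ?_⟩
  rw [Spr.pair_apply S (i := true) (j := false) (by decide) hu hu1 ht (Spr.cube_symm S ht hu h3) hb]
  calc u b * (u b * b) = u b * u b * b := by group
    _ = b := by rw [S.sq, one_mul]

omit h [Finite M] in
theorem JJ_apply {s : MulAut M} (hs : s ∈ JJ A) (m : M) : s (s m) = m := by
  rw [← MulAut.mul_apply, Spr.JJ_sq S hs, MulAut.one_apply]

omit h [Finite M] in
/-- `J` maps `B true` to `B false`. -/
theorem JJ_mem_false {s : MulAut M} (hs : s ∈ JJ A) {m : M} (hm : m ∈ B true) : s m ∈ B false := by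
  rw [← Spr.JJ_map_true S hs]
  exact ⟨m, hm, rfl⟩

omit h [Finite M] in
theorem JJ_mem_true {s : MulAut M} (hs : s ∈ JJ A) {m : M} (hm : m ∈ B false) : s m ∈ B true := by
  rw [← Spr.JJ_map_false S hs]
  exact ⟨m, hm, rfl⟩

omit h [Finite M] in
/-- `s b ∈ {[b, u]}` for `s ∈ J` -/
theorem J_mem_KK {s : MulAut M} (hs : s ∈ JJ A) {b : M} (hb : b ∈ B false) : s b ∈ KK S true b := by
  obtain ⟨u, hu, -, hub⟩ := exists_u S hs
  exact ⟨u, hu, hub b hb⟩

/-- `1 ≠ k ∈ {[b, u]}` is `s b`, `s ∈ J`. -/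
theorem exists_J_of_mem {b k : M} (hb : b ∈ B false) (hk : k ∈ KK S true b) (hk1 : k ≠ 1) :
    ∃ s ∈ JJ A, s b = k := by
  obtain ⟨u, hu, rfl⟩ := hk
  have hu1 : u ≠ 1 := by
    rintro rfl
    apply hk1
    rw [MulAut.one_apply, S.sq]
  obtain ⟨s, hs, hsb⟩ := exists_J_true S h hu hu1
  exact ⟨s, hs, hsb b hb⟩

/-- `k ∈ {[b', u]}` for `b' = [k', t] ≠ 1` -/
theorem closure {b k k' : M} (hb : b ∈ B false) (hk : k ∈ KK S true b) (hk' : k' ∈ KK S true b)
    {t : MulAut M} (ht : t ∈ A false) (hne : t k' * k' ≠ 1) : k ∈ KK S true (t k' * k') := by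
  by_cases hk1 : k = 1
  · rw [hk1]; exact one_mem _
  have hk1' : k' ≠ 1 := by
    rintro rfl
    exact hne (by rw [map_one, mul_one])
  have ht1 : t ≠ 1 := by
    rintro rfl
    exact hne (by rw [MulAut.one_apply, S.sq])
  have hkB := KK_le S true b hk'
  obtain ⟨s, hs, hsb⟩ := exists_J_of_mem S h hb hk hk1
  obtain ⟨s', hs', hsb'⟩ := exists_J_of_mem S h hb hk' hk1'
  obtain ⟨r, hr, hrm⟩ := exists_J_false S h ht ht1
  have h1 := SL2T.jj S h hs hs' hr
  have h2 : (s * s' * r) (t k' * k') = k := by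
    rw [← hrm k' hkB, MulAut.mul_apply, MulAut.mul_apply, JJ_apply S hr, ← hsb', JJ_apply S hs', hsb]
  have h3 : t k' * k' ∈ B false := comm_mem_B S ht k'
  rw [← h2]
  exact J_mem_KK S h1 h3

/-- `[k, v] = [k', w]` -/
theorem line {b k : M} (hb : b ∈ B false) (hk : k ∈ KK S true b) {v w : MulAut M} (hv : v ∈ A false)
    (hw : w ∈ A false) (hw1 : w ≠ 1) : ∃ k' ∈ KK S true b, v k * k = w k' * k' := by
  by_cases hk1 : k = 1
  · refine ⟨1, one_mem _, ?_⟩
    rw [hk1, map_one, map_one]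
  by_cases hv1 : v = 1
  · refine ⟨1, one_mem _, ?_⟩
    rw [hv1, MulAut.one_apply, S.sq, map_one, mul_one]
  have hkB := KK_le S true b hk
  obtain ⟨s, hs, hsb⟩ := exists_J_of_mem S h hb hk hk1
  obtain ⟨r, hr, hrm⟩ := exists_J_false S h hv hv1
  obtain ⟨r', hr', hrm'⟩ := exists_J_false S h hw hw1
  have h1 := SL2T.jj S h hr' hr hs
  have hmem := J_mem_KK S h1 hb
  refine ⟨_, hmem, ?_⟩
  rw [← hrm k hkB, ← hrm' _ (KK_le S true b hmem), MulAut.mul_apply, MulAut.mul_apply, JJ_apply S hr', hsb]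

end SL2T

end Cfsg.Agent.Omega.NO1.Field
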