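import Cfsg.Agent.Omega.NO1.Field.KAbs
import Cfsg.Agent.Omega.NO1.Field.Defs

/-!
# THEOREM FIELD: `K₁` from the SL₂ type (FIELD-2)

`h : Hyp V F`, `x ∈ C_G(F)` bad, `s : Sect (HX V F x) (EX V F x) F N`, `T : SL2T` on `N = E E^x / F`:

* `exists_sub` : for `e ∈ E - F` a subgroup `F ≤ A₁ ≤ E^x`, `|A₁ / F| = |V / E|`, `[V, A₁, A₁] = 1`,
  `e ∈ [v, s] F` for every `s ∈ A₁ - F` and some `v ∈ V - E`;
* `exists_K1` : `K1 V F e A₁`.
-/

set_option autoImplicit false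
set_option linter.unusedSectionVars false

namespace Cfsg.Agent.Omega.NO1.Field

open Subgroup Cfsg Cfsg.Agent.ZN
open Cfsg.Agent.Omega.NOne.NearFF (c c_def)
open Cfsg.Agent.Omega.NOne.Flat (Hyp BadX Sect EX HX Spr gi Good)
open scoped Pointwise

universe u

section sect

variable {G : Type u} [Group G] {V F : Subgroup G} {x : G} {N : Type u} [Group N]

/-- `E / F`, `E^x / F` -/
abbrev BB (s : Sect (HX V F x) (EX V F x) F N) : Bool → Subgroup N :=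
  fun i => s.B (MulAut.conj (gi x i) • NOne.Flat.EE V F)

/-- `V`, `V^x` on `E E^x / F` -/
abbrev AA (s : Sect (HX V F x) (EX V F x) F N) : Bool → Subgroup (MulAut N) :=
  fun i => s.A (MulAut.conj (gi x i) • V)

theorem gi_false (K : Subgroup G) : MulAut.conj (gi x false) • K = K := by
  change MulAut.conj (1 : G) • K = K
  rw [map_one, one_smul]

theorem gi_true (K : Subgroup G) : MulAut.conj (gi x true) • K = MulAut.conj x • K := rfl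

end sect

section main

variable {G : Type u} [Group G] [Finite G] {V F : Subgroup G} (h : Hyp V F) {x : G}
  (hx : x ∈ centralizer (F : Set G)) (hb : BadX V x) {N : Type u} [Group N]
  (s : Sect (HX V F x) (EX V F x) F N)

include h hx hb in
theorem V_le_HX : V ≤ HX V F x := by
  have h1 := h.conjV_le_HX (h.good_one hx hb)
  rwa [map_one, one_smul] at h1

include h hx hb in
theorem conjV_le_HX' : MulAut.conj x • V ≤ HX V F x := h.conjV_le_HX (h.good_self hx hb)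

theorem E_le_EX : NOne.Flat.EE V F ≤ EX V F x := le_sup_left

theorem conjE_le_EX : MulAut.conj x • NOne.Flat.EE V F ≤ EX V F x := le_sup_right

theorem c_mem_EX {g n : G} (hg : g ∈ HX V F x) (hn : n ∈ EX V F x)
    (hN : ∀ h ∈ HX V F x, ∀ n ∈ EX V F x, h * n * h⁻¹ ∈ EX V F x) : c g n ∈ EX V F x := by
  rw [c_def]
  exact mul_mem (hN g hg n hn) (inv_mem hn)

/-- `[n, g]` in `N` -/
theorem ρπ_mul (hsq : ∀ m : N, m * m = 1) (g : ↥(HX V F x)) (n : ↥(EX V F x)) :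
    s.ρ g (s.π n) * s.π n = s.π ⟨c (g : G) n, c_mem_EX g.2 n.2 s.nN⟩ := by
  have h1 : s.π n = s.π n⁻¹ := by
    rw [map_inv]
    exact (inv_eq_of_mul_eq_one_left (hsq _)).symm
  calc s.ρ g (s.π n) * s.π n = s.ρ g (s.π n) * s.π n⁻¹ := by rw [← h1]
    _ = s.π ⟨(g : G) * n * (g : G)⁻¹, s.nN g g.2 n n.2⟩ * s.π n⁻¹ := by rw [s.ρπ]
    _ = s.π (⟨(g : G) * n * (g : G)⁻¹, s.nN g g.2 n n.2⟩ * n⁻¹) := by rw [map_mul]
    _ = _ := by
      congr 1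

theorem mem_AA_false {a : MulAut N} (ha : a ∈ AA s false) : ∃ v ∈ V, ∃ hv : v ∈ HX V F x, s.ρ ⟨v, hv⟩ = a := by
  obtain ⟨⟨v, hvH⟩, hv, rfl⟩ := ha
  have hv' : v ∈ MulAut.conj (gi x false) • V := hv
  rw [gi_false] at hv'
  exact ⟨v, hv', hvH, rfl⟩

theorem ρ_mem_AA {v : G} (hv : v ∈ V) (hvH : v ∈ HX V F x) : s.ρ ⟨v, hvH⟩ ∈ AA s false := by
  refine ⟨⟨v, hvH⟩, ?_, rfl⟩
  change v ∈ MulAut.conj (gi x false) • V
  rwa [gi_false]

include h hx hb in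
theorem card_AA (i : Bool) : Nat.card (AA s i) = (NOne.Flat.EE V F).relIndex V := by
  have hgood := h.good_gi hx hb
  rw [s.card_A (h.conjV_le_HX (hgood i)) (K' := MulAut.conj (gi x i) • NOne.Flat.EE V F)
    (fun k hk => by rw [s.ρ_eq_one_iff]; exact h.ker_conj hx hb (hgood i) hk)]
  have e1 := NOne.Flat.card_mul_relIndex' (inf_le_left : NOne.Flat.EE V F ≤ V)
  have e2 := NOne.Flat.card_mul_relIndex' (Hyp.conjE_le_conjV (V := V) (F := F) (gi x i))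
  rw [NOne.Choice.card_conj, NOne.Choice.card_conj, ← e1] at e2
  exact Nat.eq_of_mul_eq_mul_left Nat.card_pos e2

/-- the subgroup `A₁` -/
def A1 (S : Spr (BB s) (AA s)) (b : N) : Subgroup G := ((KK S true b).comap s.π).map (EX V F x).subtype

theorem mem_A1 (S : Spr (BB s) (AA s)) {b : N} {n : G} :
    n ∈ A1 s S b ↔ ∃ hn : n ∈ EX V F x, s.π ⟨n, hn⟩ ∈ KK S true b := by
  constructor
  · rintro ⟨⟨n, hn⟩, h1, rfl⟩
    exact ⟨hn, h1⟩
  · rintro ⟨hn, h1⟩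
    exact ⟨⟨n, hn⟩, h1, rfl⟩

/-- **`A₁`** -/
theorem exists_sub (S : Spr (BB s) (AA s)) (T : SL2T (BB s) (AA s)) {e : G} (he : e ∈ NOne.Flat.EE V F)
    (heF : e ∉ F) (h : Hyp V F) (hx : x ∈ centralizer (F : Set G)) (hb : BadX V x) :
    ∃ A₁ : Subgroup G, F ≤ A₁ ∧ A₁ ≤ MulAut.conj x • NOne.Flat.EE V F ∧
      F.relIndex A₁ = (NOne.Flat.EE V F).relIndex V ∧
      (∀ t ∈ A₁, t ∉ F → ∃ v ∈ V, v ∉ NOne.Flat.EE V F ∧ (c v t)⁻¹ * e ∈ F) ∧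
      (∀ v ∈ V, ∀ a ∈ A₁, ∀ t ∈ A₁, c (c v a) t = 1) ∧
      (∀ v ∈ V, ∀ w ∈ V, w ∉ NOne.Flat.EE V F → ∀ a ∈ A₁, ∃ t ∈ A₁, (c v a)⁻¹ * c w t ∈ F) := by
  have : Finite N := Finite.of_surjective s.π s.surj
  have hVH := V_le_HX h hx hb
  have hEX : NOne.Flat.EE V F ≤ EX V F x := E_le_EX
  have hF1 : ∀ n : ↥(EX V F x), s.π n = 1 ↔ (n : G) ∈ F := s.ker
  set b : N := s.π ⟨e, hEX he⟩ with hbd
  have hbB : b ∈ BB s false := ⟨⟨e, hEX he⟩, by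
    change e ∈ MulAut.conj (gi x false) • NOne.Flat.EE V F
    rwa [gi_false], rfl⟩
  have hb1 : b ≠ 1 := fun h1 => heF ((hF1 _).1 h1)
  have hbB' : b ∉ BB s true := fun h1 => hb1 (Spr.eq_one S (by decide) hbB h1)
  have hFx := h.F_le_conjE hx
  -- `A₁ ≤ E^x`
  have hle : A1 s S b ≤ MulAut.conj x • NOne.Flat.EE V F := by
    intro n hn
    obtain ⟨hnX, hn'⟩ := (mem_A1 s S).1 hn
    exact (s.mem_B hFx).1 (KK_le S true b hn')
  have hFle : F ≤ A1 s S b := by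
    intro f hf
    have hfX : f ∈ EX V F x := hEX (h.F_le_E hf)
    refine (mem_A1 s S).2 ⟨hfX, ?_⟩
    rw [(hF1 ⟨f, hfX⟩).2 hf]
    exact one_mem _
  have hAW : A1 s S b ≤ NOne.Flat.WW V F := hle.trans (Hyp.conjE_le_W hx)
  -- `ρ v ≠ 1`
  have hρ : ∀ v (hv : v ∈ V), s.ρ ⟨v, hVH hv⟩ = 1 ↔ v ∈ NOne.Flat.EE V F := by
    intro v hv
    have h1 := h.ker_conj (k := v) hx hb (h.good_one hx hb) (by rwa [map_one, one_smul])
    rw [map_one, one_smul] at h1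
    rw [s.ρ_eq_one_iff]
    exact h1
  -- `[n, v]`
  have hcom : ∀ v (hv : v ∈ V) (n : ↥(EX V F x)), s.ρ ⟨v, hVH hv⟩ (s.π n) * s.π n =
      s.π ⟨c v n, c_mem_EX (hVH hv) n.2 s.nN⟩ := fun v hv n =>
    ρπ_mul s S.sq ⟨v, hVH hv⟩ n
  have hπ : ∀ {a a' : G} (ha : a ∈ EX V F x) (ha' : a' ∈ EX V F x), s.π ⟨a, ha⟩ = s.π ⟨a', ha'⟩ → a⁻¹ * a' ∈ F :=
    fun ha ha' h1 => s.π_eq_iff.1 h1
  refine ⟨A1 s S b, hFle, hle, ?_, ?_, ?_, ?_⟩
  · have h1 : s.B (A1 s S b) = KK S true b := by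
      apply le_antisymm
      · rintro _ ⟨n, hn, rfl⟩
        obtain ⟨hnX, hn'⟩ := (mem_A1 s S).1 (mem_subgroupOf.1 hn)
        exact hn'
      · intro k hk
        obtain ⟨n, rfl⟩ := s.surj k
        exact ⟨n, mem_subgroupOf.2 ((mem_A1 s S).2 ⟨n.2, hk⟩), rfl⟩
    rw [← s.card_B (hle.trans conjE_le_EX), h1, card_KK S hbB', card_AA h hx hb s true]
  · intro t ht htF
    obtain ⟨htX, ht'⟩ := (mem_A1 s S).1 ht
    obtain ⟨a, ha, ha1, hab⟩ := T.exists_t S hbB ht' (fun h1 => htF ((hF1 _).1 h1))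
    obtain ⟨v, hv, hvH, rfl⟩ := mem_AA_false s ha
    refine ⟨v, hv, fun hvE => ha1 ((hρ v hv).2 hvE), ?_⟩
    have h1 := hcom v hv ⟨t, htX⟩
    exact hπ _ _ (h1.symm.trans hab)
  · intro v hv a ha t ht
    obtain ⟨haX, ha'⟩ := (mem_A1 s S).1 ha
    obtain ⟨htX, ht'⟩ := (mem_A1 s S).1 ht
    have haW := hAW ha
    have htW := hAW ht
    have h1 := hcom v hv ⟨a, haX⟩
    by_cases hne : s.ρ ⟨v, hVH hv⟩ (s.π ⟨a, haX⟩) * s.π ⟨a, haX⟩ = 1
    · rw [h1, hF1] at hne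
      exact Hyp.c_F hne htW
    by_cases htF : t ∈ F
    · have h2 : c v a * t = t * c v a := (Hyp.F_comm htF (h.V_le_X (h.c_memV hv haW))).symm
      rw [c_def, h2, mul_inv_cancel_right, mul_inv_cancel]
    have h2 := T.closure S hbB ht' ha' (ρ_mem_AA s hv (hVH hv)) hne
    rw [h1] at h2 hne
    have h3 : s.π ⟨c v a, c_mem_EX (hVH hv) haX s.nN⟩ ∈ BB s false := by
      rw [← h1]
      exact comm_mem_B S (ρ_mem_AA s hv (hVH hv)) _
    obtain ⟨r, hr, hr1, hrb⟩ := T.exists_t S h3 h2 (fun h4 => htF ((hF1 _).1 h4))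
    obtain ⟨w, hw, hwH, rfl⟩ := mem_AA_false s hr
    have h4 := hcom w hw ⟨t, htX⟩
    have h5 := hπ _ _ (h4.symm.trans hrb)
    -- `c v a = c w t * f`
    have h6 : c v a = c w t * ((c w t)⁻¹ * c v a) := by group
    rw [h6, h.c_mul_left (h.c_memV hw htW) (h.F_le_V h5) htW, h.beta_self hw htW, Hyp.c_F h5 htW, one_mul]
  · intro v hv w hw hwE a ha
    obtain ⟨haX, ha'⟩ := (mem_A1 s S).1 ha
    obtain ⟨k', hk', hkk⟩ := T.line S hbB ha' (ρ_mem_AA s hv (hVH hv)) (ρ_mem_AA s hw (hVH hw))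
      (fun h1 => hwE ((hρ w hw).1 h1))
    obtain ⟨t, rfl⟩ := s.surj k'
    refine ⟨t, (mem_A1 s S).2 ⟨t.2, hk'⟩, ?_⟩
    rw [hcom v hv, hcom w hw] at hkk
    exact hπ _ _ hkk

end main

end Cfsg.Agent.Omega.NO1.Field
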