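import Cfsg.Agent.Omega.NO1.Field.KOne
import Cfsg.Agent.Omega.NO1.Alpha.Bridge

/-!
# THEOREM FIELD: `K1All` and `SC` from FIELD-1 and FIELD-5

* `SL2Spr` : the output of FIELD-1: `SL2T B A` or Sz;
* `exists_K1_of` : `K1 V F e A₁` from the SL₂ type, `exists_K1_two` : `|V / E| = 2`;
* `k1All_of : SL2Spr → NoSz → K1All`;
* `sc_of : SL2Spr → NoSz → HypF V F → SC V F` (`SC` of `Alpha/Bridge.lean`).
-/

set_option autoImplicit false
set_option linter.unusedSectionVars false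

namespace Cfsg.Agent.Omega.NO1.Field

open Subgroup Cfsg Cfsg.Agent.ZN
open Cfsg.Agent.Omega.NOne.NearFF (c c_def)
open Cfsg.Agent.Omega.NOne.Flat (Hyp BadX Sect EX HX Spr gi Good NN WW)
open Cfsg.Agent.Omega.NO1.Alpha (SC)
open scoped Pointwise

universe u

/-- **FIELD-1**, the form used here. -/
def SL2Spr : Prop :=
  ∀ (M : Type u) [Group M] [Finite M] (B : Bool → Subgroup M) (A : Bool → Subgroup (MulAut M)),
    Spr B A → 4 ≤ Nat.card (A false) → SL2T B A ∨ IsSz ↥(A false ⊔ A true) (Nat.card (A false))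

section

variable {G : Type u} [Group G] [Finite G] {V F : Subgroup G} (h : Hyp V F)
include h

/-- `K₁` from `A₁ ≤ E^x`. -/
theorem K1_of {x e : G} (hx : x ∈ centralizer (F : Set G)) (hb : BadX V x) {A : Subgroup G} (hF : F ≤ A)
    (hA : A ≤ MulAut.conj x • NOne.Flat.EE V F) (hc : F.relIndex A = (NOne.Flat.EE V F).relIndex V)
    (hex : ∀ t ∈ A, t ∉ F → ∃ v ∈ V, v ∉ NOne.Flat.EE V F ∧ (c v t)⁻¹ * e ∈ F)
    (hq : ∀ v ∈ V, ∀ a ∈ A, ∀ t ∈ A, c (c v a) t = 1)
    (hl : ∀ v ∈ V, ∀ w ∈ V, w ∉ NOne.Flat.EE V F → ∀ a ∈ A, ∃ t ∈ A, (c v a)⁻¹ * c w t ∈ F) :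
    K1 V F e (A ⊔ NN V F) := by
  have hAW : A ≤ WW V F := hA.trans (Hyp.conjE_le_W hx)
  have hmem : ∀ s ∈ A ⊔ NN V F, ∃ a ∈ A, ∃ n ∈ NN V F, s = a * n := by
    intro s hs
    have h3 : s ∈ ((A ⊔ NN V F : Subgroup G) : Set G) := hs
    rw [Subgroup.coe_mul_of_left_le_normalizer_right _ _ (hAW.trans h.W_norm_NN)] at h3
    obtain ⟨a, ha, n, hn, rfl⟩ := h3
    exact ⟨a, ha, n, hn, rfl⟩
  have hNW : NN V F ≤ WW V F := Hyp.NN_le_W
  -- `[v, a n] ≡ [v, a]`
  have hcn : ∀ v ∈ V, ∀ a ∈ A, ∀ n ∈ NN V F, (c v (a * n))⁻¹ * c v a ∈ F := by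
    intro v hv a ha n hn
    rw [h.c_mul_right hv (hAW ha) (hNW hn)]
    have h1 : c v n ∈ F := h.c_mem_F hv hn
    have h2 : c (c v n) a = 1 := Hyp.c_F h1 (hAW ha)
    rw [h2, mul_one, mul_inv_rev]
    have e1 : (c v n)⁻¹ * (c v a)⁻¹ * c v a = (c v n)⁻¹ := by group
    rw [e1]
    exact inv_mem h1
  exact
    { NA := le_sup_right
      AW := sup_le hAW hNW
      card := by
        have h1 : A ⊓ NN V F = F := by
          refine le_antisymm ?_ (le_inf hF h.F_le_NN)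
          calc A ⊓ NN V F ≤ MulAut.conj x • NOne.Flat.EE V F ⊓ NN V F := inf_le_inf_right _ hA
            _ = F := h.conjE_inf_NN hx hb
        have h2 : (NN V F).relIndex (A ⊔ NN V F) = (NN V F).relIndex A := by
          rw [sup_comm]
          exact relIndex_sup_left_of_le_norm (hAW.trans h.W_norm_NN)
        rw [h2, ← inf_relIndex_left, h1, hc]
      quad := by
        intro v hv s hs t ht
        obtain ⟨a, ha, n, hn, rfl⟩ := hmem s hs
        obtain ⟨b, hb', m, hm, rfl⟩ := hmem t ht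
        have h1 := hcn v hv a ha n hn
        have hW1 : a * n ∈ WW V F := mul_mem (hAW ha) (hNW hn)
        have hW2 : b * m ∈ WW V F := mul_mem (hAW hb') (hNW hm)
        -- `[v, a n] = [v, a] f`
        have h2 : c v (a * n) = c v a * ((c v (a * n))⁻¹ * c v a)⁻¹ := by group
        rw [h2, h.c_mul_left (h.c_memV hv (hAW ha)) (h.F_le_V (inv_mem h1)) hW2, Hyp.c_F (inv_mem h1) hW2, mul_one]
        have h3 := h.c_memE hv (hAW ha)
        rw [h.c_mul_right' h3 (hAW hb') (hNW hm), hq v hv a ha b hb', one_mul]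
        exact Hyp.c_E_NN h3 hm
      ex := by
        intro s hs hsN
        obtain ⟨a, ha, n, hn, rfl⟩ := hmem s hs
        obtain ⟨v, hv, hvE, h1⟩ := hex a ha fun haF => hsN (mul_mem (h.F_le_NN haF) hn)
        refine ⟨v, hv, hvE, ?_⟩
        have e1 : (c v (a * n))⁻¹ * e = (c v (a * n))⁻¹ * c v a * ((c v a)⁻¹ * e) := by group
        rw [e1]
        exact mul_mem (hcn v hv a ha n hn) h1
      line := by
        intro v hv w hw hwE s hs
        obtain ⟨a, ha, n, hn, rfl⟩ := hmem s hs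
        obtain ⟨t, ht, h1⟩ := hl v hv w hw hwE a ha
        refine ⟨t, mem_sup_left ht, ?_⟩
        have e1 : (c v (a * n))⁻¹ * c w t = (c v (a * n))⁻¹ * c v a * ((c v a)⁻¹ * c w t) := by group
        rw [e1]
        exact mul_mem (hcn v hv a ha n hn) h1 }
where
  relIndex_sup_left_of_le_norm {A N : Subgroup G} (hn : A ≤ normalizer (N : Set G)) :
      N.relIndex (N ⊔ A) = N.relIndex A := by
    have hN : (N.subgroupOf (N ⊔ A)).Normal := normal_subgroupOf_of_le_normalizer (sup_le le_normalizer hn)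
    have h1 := relIndex_sup_left (K := N.subgroupOf (N ⊔ A)) (H := A.subgroupOf (N ⊔ A))
    rw [← subgroupOf_sup le_sup_left le_sup_right, relIndex_subgroupOf le_rfl, relIndex_subgroupOf le_sup_right] at h1
    exact h1

/-- the case `|V / E| = 2` -/
theorem exists_K1_two (h2 : (NOne.Flat.EE V F).relIndex V = 2) {e : G} (he : e ∈ NOne.Flat.EE V F) (heF : e ∉ F) :
    ∃ A₁ : Subgroup G, K1 V F e A₁ := by
  obtain ⟨w, hw, hwE⟩ := h.exists_not_mem
  obtain ⟨x, hx, hb, -, -⟩ := h.exists_near hw hwE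
  obtain ⟨s, hs, hse⟩ := h.surj hw hwE he
  obtain ⟨f, hf, hfn⟩ := h.exists_conjE_mul hx hb hs
  have hfW : f ∈ WW V F := Hyp.conjE_le_W hx hf
  have hff : f * f ∈ F := h.sq_W hfW
  have hfc : ∀ g ∈ F, g * f = f * g := fun g hg => Hyp.F_comm hg (Hyp.W_le_X hfW)
  have hwf : (c w f)⁻¹ * e ∈ F := by
    have h1 : (c w f)⁻¹ * c w s ∈ F := (h.c_iff hw hfW hs).2 (h.c_mem_F hw hfn)
    have h3 : (c w s)⁻¹ * e ∈ F := by
      rw [h.inv (h.c_memV hw hs)]
      rwa [h.inv he.1] at hse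
    have h4 := mul_mem h1 h3
    rwa [mul_assoc, mul_inv_cancel_left] at h4
  have hfF : f ∉ F := by
    intro h1
    apply heF
    have h3 : c w f = 1 := by
      rw [c_def, ← Hyp.F_comm h1 (h.V_le_X hw), mul_inv_cancel_right, mul_inv_cancel]
    rw [h3, inv_one, one_mul] at hwf
    exact hwf
  let A : Subgroup G :=
    { carrier := {a | a ∈ F ∨ f⁻¹ * a ∈ F}
      one_mem' := Or.inl (one_mem _)
      mul_mem' := by
        rintro a b (ha | ha) (hb | hb)
        · exact Or.inl (mul_mem ha hb)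
        · right
          have e1 : f⁻¹ * (a * b) = a * (f⁻¹ * b) := by
            have h3 : f⁻¹ * a = a * f⁻¹ := by
              rw [inv_mul_eq_iff_eq_mul, ← mul_assoc, ← hfc a ha, mul_inv_cancel_right]
            rw [← mul_assoc, h3, mul_assoc]
          rw [e1]
          exact mul_mem ha hb
        · right
          rw [← mul_assoc]
          exact mul_mem ha hb
        · left
          have e1 : a * b = f * f * (f⁻¹ * a) * (f⁻¹ * b) := by
            calc a * b = f * ((f⁻¹ * a) * f) * (f⁻¹ * b) := by group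
              _ = f * (f * (f⁻¹ * a)) * (f⁻¹ * b) := by rw [hfc _ ha]
              _ = _ := by group
          rw [e1]
          exact mul_mem (mul_mem hff ha) hb
      inv_mem' := by
        rintro a (ha | ha)
        · exact Or.inl (inv_mem ha)
        · right
          have h3 := hfc _ (inv_mem ha)
          have e1 : f⁻¹ * a⁻¹ = (f⁻¹ * a)⁻¹ * (f * f)⁻¹ := by
            have h4 : f⁻¹ * (f⁻¹ * a)⁻¹ = (f⁻¹ * a)⁻¹ * f⁻¹ := by
              rw [inv_mul_eq_iff_eq_mul, ← mul_assoc, ← h3, mul_inv_cancel_right]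
            calc f⁻¹ * a⁻¹ = f⁻¹ * (f⁻¹ * a)⁻¹ * f⁻¹ := by group
              _ = (f⁻¹ * a)⁻¹ * f⁻¹ * f⁻¹ := by rw [h4]
              _ = _ := by group
          rw [e1]
          exact mul_mem (inv_mem ha) (inv_mem hff) }
  have hmem : ∀ a, a ∈ A ↔ a ∈ F ∨ f⁻¹ * a ∈ F := fun a => Iff.rfl
  have hFA : F ≤ A := fun a ha => Or.inl ha
  have hAE : A ≤ MulAut.conj x • NOne.Flat.EE V F := by
    rintro a (ha | ha)
    · exact h.F_le_conjE hx ha
    · have e1 : a = f * (f⁻¹ * a) := by group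
      rw [e1]
      exact mul_mem hf (h.F_le_conjE hx ha)
  have hidx : F.relIndex A = 2 := by
    rw [relIndex, Subgroup.index_eq_two_iff]
    refine ⟨⟨f, Or.inr (by rw [inv_mul_cancel]; exact one_mem _)⟩, ?_⟩
    rintro ⟨b, hb⟩
    rw [mem_subgroupOf, mem_subgroupOf]
    change Xor (b * f ∈ F) (b ∈ F)
    rcases hb with hb | hb
    · refine Or.inr ⟨hb, fun h3 => hfF ((mul_mem_cancel_left hb).1 h3)⟩
    · refine Or.inl ⟨?_, fun h3 => hfF ?_⟩
      · have e1 : b * f = f * f * (f⁻¹ * b) := by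
          calc b * f = f * ((f⁻¹ * b) * f) := by group
            _ = f * (f * (f⁻¹ * b)) := by rw [hfc _ hb]
            _ = _ := by group
        rw [e1]
        exact mul_mem hff hb
      · have e1 : f = b * (f⁻¹ * b)⁻¹ := by group
        rw [e1]
        exact mul_mem h3 (inv_mem hb)
  -- `[v, a] ≡ [v, f]` for `a ∈ A - F`
  have hAW : A ≤ WW V F := hAE.trans (Hyp.conjE_le_W hx)
  have hva : ∀ v ∈ V, ∀ a ∈ A, a ∉ F → (c v a)⁻¹ * c v f ∈ F := by
    intro v hv a ha haF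
    rcases ha with ha | ha
    · exact absurd ha haF
    · refine (h.c_iff hv (hAW (Or.inr ha)) hfW).2 ?_
      refine h.c_mem_F hv (h.F_le_NN ?_)
      have e1 : a⁻¹ * f = (f⁻¹ * a)⁻¹ := by group
      rw [e1]
      exact inv_mem ha
  refine ⟨_, K1_of h hx hb hFA hAE (by rw [hidx, h2]) ?_ ?_ ?_⟩
  · intro t ht htF
    refine ⟨w, hw, hwE, ?_⟩
    have e1 : (c w t)⁻¹ * e = (c w t)⁻¹ * c w f * ((c w f)⁻¹ * e) := by group
    rw [e1]
    exact mul_mem (hva w hw t ht htF) hwf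
  · intro v hv a ha t ht
    by_cases haF : a ∈ F
    · have h3 : c v a = 1 := by
        rw [c_def, ← Hyp.F_comm haF (h.V_le_X hv), mul_inv_cancel_right, mul_inv_cancel]
      rw [h3, c_def]
      group
    by_cases htF : t ∈ F
    · have h3 := Hyp.F_comm htF (h.V_le_X (h.c_memV hv (hAW ha)))
      rw [c_def (c v a), ← h3, mul_inv_cancel_right, mul_inv_cancel]
    -- `a = f a'`, `t = f t'`
    have ha' : f⁻¹ * a ∈ F := by
      rcases ha with ha | ha
      · exact absurd ha haF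
      · exact ha
    have ht' : f⁻¹ * t ∈ F := by
      rcases ht with ht | ht
      · exact absurd ht htF
      · exact ht
    have key : ∀ v ∈ V, ∀ a, f⁻¹ * a ∈ F → c v a = c v f := by
      intro v hv a ha
      have e1 : a = (f⁻¹ * a) * f := by
        rw [hfc _ ha]; group
      rw [e1, h.c_F_mul hv hfW ha]
    rw [key v hv a ha', key _ (h.c_memV hv hfW) t ht']
    exact h.beta_self hv hfW
  · intro v hv w' hw' hwE' a ha
    by_cases hvE : v ∈ NOne.Flat.EE V F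
    · refine ⟨1, one_mem _, ?_⟩
      rw [Hyp.c_one_right, mul_one]
      exact inv_mem (h.comm_EW hvE (hAW ha))
    · refine ⟨a, ha, ?_⟩
      -- `v w' ∈ E`
      have h3 : v * w' ∈ NOne.Flat.EE V F := by
        have h5 := Subgroup.mul_mem_iff_of_index_two h2 (a := (⟨v, hv⟩ : V)) (b := ⟨w', hw'⟩)
        simp only [mem_subgroupOf, Subgroup.coe_mul] at h5
        exact h5.2 (iff_of_false hvE hwE')
      have h4 := h.comm_EW h3 (hAW ha)
      rw [h.c_mul_left hv hw' (hAW ha)] at h4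
      rw [h.inv (h.c_memV hv (hAW ha))]
      exact h4

/-- `SC` from `A₁ ≤ E^x`. -/
theorem SC_of (hsub : ∀ e ∈ NOne.Flat.EE V F, e ∉ F → ∃ x ∈ centralizer (F : Set G), BadX V x ∧
      ∃ A : Subgroup G, F ≤ A ∧ A ≤ MulAut.conj x • NOne.Flat.EE V F ∧
      F.relIndex A = (NOne.Flat.EE V F).relIndex V ∧
      (∀ t ∈ A, t ∉ F → ∃ v ∈ V, v ∉ NOne.Flat.EE V F ∧ (c v t)⁻¹ * e ∈ F) ∧
      (∀ v ∈ V, ∀ a ∈ A, ∀ t ∈ A, c (c v a) t = 1)) : SC V F := by
  intro e he heF
  obtain ⟨x, hx, hb, A, hF, hA, hc, hex, hq⟩ := hsub e he heF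
  have hAW : A ≤ WW V F := hA.trans (Hyp.conjE_le_W hx)
  have hFC : F ≤ centralizer (V : Set G) := h.F_le_V.trans h.comm
  have hAC : A ⊓ centralizer (V : Set G) = F := by
    refine le_antisymm ?_ (le_inf hF hFC)
    calc A ⊓ centralizer (V : Set G) ≤ MulAut.conj x • NOne.Flat.EE V F ⊓ NN V F :=
          le_inf (inf_le_left.trans hA) (le_inf (inf_le_left.trans hAW)
            (inf_le_right.trans (centralizer_le (inf_le_left : NOne.Flat.EE V F ≤ V))))
      _ = F := h.conjE_inf_NN hx hb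
  refine ⟨A, hAW, ?_, ?_, fun s hs t ht v hv => hq v hv t ht s hs⟩
  · rw [← inf_relIndex_left, hAC, hc]
  · intro s hs hsC
    obtain ⟨v, hv, hvE, h1⟩ := hex s hs fun h2 => hsC (hFC h2)
    refine ⟨v, hv, hvE, ?_⟩
    rwa [h.inv (h.c_memV hv (hAW hs))] at h1

end

/-! ### the plug -/

section plug

variable {G : Type u} [Group G] [Finite G] {V F : Subgroup G}

/-- `A₁ ≤ E^x` for every `e ∈ E - F` -/
theorem exists_sub_of (h1 : SL2Spr.{u}) (h5 : NoSz.{u}) (h : HypF V F) (h4 : 4 ≤ (NOne.Flat.EE V F).relIndex V) :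
    ∃ x ∈ centralizer (F : Set G), BadX V x ∧ ∀ e ∈ NOne.Flat.EE V F, e ∉ F →
      ∃ A : Subgroup G, F ≤ A ∧ A ≤ MulAut.conj x • NOne.Flat.EE V F ∧
      F.relIndex A = (NOne.Flat.EE V F).relIndex V ∧
      (∀ t ∈ A, t ∉ F → ∃ v ∈ V, v ∉ NOne.Flat.EE V F ∧ (c v t)⁻¹ * e ∈ F) ∧
      (∀ v ∈ V, ∀ a ∈ A, ∀ t ∈ A, c (c v a) t = 1) ∧
      (∀ v ∈ V, ∀ w ∈ V, w ∉ NOne.Flat.EE V F → ∀ a ∈ A, ∃ t ∈ A, (c v a)⁻¹ * c w t ∈ F) := by
  obtain ⟨w, hw, hwE⟩ := h.toHyp.exists_not_mem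
  obtain ⟨x, hx, hb, -, -⟩ := h.toHyp.exists_near hw hwE
  refine ⟨x, hx, hb, fun e he heF => ?_⟩
  obtain ⟨N, _, ⟨s⟩⟩ := Hyp.exists_sectEX (V := V) (F := F) hx
  have : Finite N := Finite.of_surjective s.π s.surj
  have S := h.toHyp.exists_spr hx hb h.f0' s
  have hcard := card_AA h.toHyp hx hb s false
  have hne : ¬ IsSz ↥(AA s false ⊔ AA s true) (Nat.card (AA s false)) := by
    have h6 := h5 G V F h h4 x hx hb N s
    rw [hcard]
    have e1 : AA s false ⊔ AA s true = s.A V ⊔ s.A (MulAut.conj x • V) := by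
      change s.A (MulAut.conj (gi x false) • V) ⊔ s.A (MulAut.conj x • V) = _
      rw [gi_false]
    rwa [e1]
  have T : SL2T (BB s) (AA s) := (h1 N (BB s) (AA s) S (by rw [hcard]; exact h4)).resolve_right hne
  exact exists_sub s S T he heF h.toHyp hx hb

/-- **FIELD-6** -/
theorem k1All_of (h1 : SL2Spr.{u}) (h5 : NoSz.{u}) : K1All.{u} := by
  intro G _ _ V F h e he heF
  have hne1 : (NOne.Flat.EE V F).relIndex V ≠ 1 := by
    intro h2
    rw [relIndex_eq_one] at h2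
    obtain ⟨w, hw, hwE⟩ := h.toHyp.exists_not_mem
    exact hwE (h2 hw)
  by_cases h2 : (NOne.Flat.EE V F).relIndex V = 2
  · exact exists_K1_two h.toHyp h2 he heF
  · have h4 : 4 ≤ (NOne.Flat.EE V F).relIndex V := by
      have : Fact (Nat.Prime 2) := ⟨Nat.prime_two⟩
      have h3 : (NOne.Flat.EE V F).relIndex V ∣ Nat.card V :=
        Dvd.intro_left _ (NOne.Flat.card_mul_relIndex' (inf_le_left : NOne.Flat.EE V F ≤ V))
      obtain ⟨n, hn⟩ := IsPGroup.iff_card.1 h.toHyp.V_isPGroup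
      rw [hn] at h3
      obtain ⟨k, -, hk⟩ := (Nat.dvd_prime_pow Nat.prime_two).1 h3
      rw [hk] at hne1 h2 ⊢
      rcases k with _ | _ | k
      · exact absurd rfl hne1
      · exact absurd rfl h2
      · rw [pow_succ, pow_succ]
        have : 0 < 2 ^ k := Nat.pos_of_ne_zero (by positivity)
        omega
    obtain ⟨x, hx, hb, hsub⟩ := exists_sub_of h1 h5 h h4
    obtain ⟨A, hF, hA, hc, hex, hq, hl⟩ := hsub e he heF
    exact ⟨_, K1_of h.toHyp hx hb hF hA hc hex hq hl⟩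

/-- **`SC` for `|V / E| ≥ 4`** (817's bridge) -/
theorem sc_of (h1 : SL2Spr.{u}) (h5 : NoSz.{u}) (h : HypF V F) (h4 : 4 ≤ (NOne.Flat.EE V F).relIndex V) :
    SC V F := by
  obtain ⟨x, hx, hb, hsub⟩ := exists_sub_of h1 h5 h h4
  refine SC_of h.toHyp fun e he heF => ?_
  obtain ⟨A, hF, hA, hc, hex, hq, -⟩ := hsub e he heF
  exact ⟨x, hx, hb, A, hF, hA, hc, hex, hq⟩

end plug

end Cfsg.Agent.Omega.NO1.Field
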