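import Cfsg.Agent.Omega.NO1.Field.SzPlug
import Cfsg.Agent.Omega.NO1.SzMod.Plug

/-!
# FIELD-5: THEOREM SZ (#19896), unconditional

`szOutS : SzOutS` (helper696, CLAIM A) and `noSz' : NoSz`.
-/

set_option autoImplicit false

namespace Cfsg.Agent.Omega.NO1.Field

universe u

theorem szOutS : SzOutS.{u} := by
  intro M _ _ B A h h4 hs
  obtain ⟨T, K, h1, h2, h3, h5, h6, h7, h8, h9, h10, h11, h12, -, h14, t, ht, htA⟩ :=
    SzMod.exists_out M B A h h4 hs
  exact ⟨T, K, h1, h2, h3, h5, h6, h7, h8, h9, h10, h11, h12, t, ht, h14 t ht htA⟩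

/-- **THEOREM SZ.** -/
theorem noSz' : NoSz.{u} := noSz szOutS

end Cfsg.Agent.Omega.NO1.Field
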