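import Cfsg.Agent.Omega.NOne.Flat.Field1
import Cfsg.Agent.Omega.NOne.Flat.TI
import Cfsg.Agent.Omega.FFThmM

/-!
# FIELD-3: `N_Λ(E) ∩ C(F)` is transitive on `(V / E)#` (project OMEGA, N1, shortcut (A) of helper868; typed by helper168)

* `Spr.odd` : the product of `1 ≠ t ∈ A₀` and `1 ≠ u ∈ A₁` has odd order;
* `Spr.trans` : the stabiliser of `B₀` in `⟨A₀, A₁⟩` is transitive on the nontrivial elements of `A₀`;
* `Hyp.trans` : `v, w ∈ V - E` : there is `l ∈ N(V) ∩ N(E) ∩ C(F)` with `v^l ∈ w E`.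

No torus, no strongly embedded subgroup.
-/

set_option autoImplicit false
set_option linter.unusedSectionVars false

namespace Cfsg.Agent.Omega.NOne.Flat

open Subgroup Cfsg Cfsg.Agent.Omega.NoFF.Basic Cfsg.Agent.Omega.NOne.Frame
open Cfsg.Agent.Omega.NOne.NearFF (Near c c_def)
open Cfsg.Agent.ZN (o2)
open Cfsg.Agent.MinSimple.VModule
open scoped Pointwise

universe u

section spr

variable {M : Type*} [Group M] {B : Bool → Subgroup M} {A : Bool → Subgroup (MulAut M)}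

namespace Spr

variable (h : Spr B A)
include h

theorem A_le (i : Bool) : A i ≤ A false ⊔ A true := by
  cases i
  · exact le_sup_left
  · exact le_sup_right

/-- `C_M(a^g) = B^g` -/
theorem mem_of_conj {i : Bool} {a g : MulAut M} (ha : a ∈ A i) (ha1 : a ≠ 1) {m : M} :
    (g * a * g⁻¹) m = m ↔ m ∈ (B i).map (g : M ≃* M).toMonoidHom := by
  have e : (g * a * g⁻¹) m = g (a (g⁻¹ m)) := rfl
  have e2 : g (g⁻¹ m) = m := by
    change (g * g⁻¹) m = m
    rw [mul_inv_cancel]; rfl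
  constructor
  · intro h1
    rw [e] at h1
    have h2 : a (g⁻¹ m) = g⁻¹ m := by
      have h3 : g (a (g⁻¹ m)) = g (g⁻¹ m) := h1.trans e2.symm
      exact g.injective h3
    exact ⟨g⁻¹ m, h.free i a ha ha1 _ h2, e2⟩
  · rintro ⟨b, hb, rfl⟩
    change g (a (g⁻¹ (g b))) = g b
    have e3 : g⁻¹ (g b) = b := by
      change (g⁻¹ * g) b = b
      rw [inv_mul_cancel]; rfl
    rw [e3, h.fix i a ha b hb]

/-- two involutions of different points have a product of odd order -/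
theorem odd [Finite M] {t u : MulAut M} (ht : t ∈ A false) (ht1 : t ≠ 1) (hu : u ∈ A true) (hu1 : u ≠ 1) :
    Odd (orderOf (t * u)) := by
  rw [← Nat.not_even_iff_odd]
  intro he
  obtain ⟨z, hz, hz1, htz, huz, g, hg, hor⟩ := TI.exists_invol (h.Asq false t ht) (h.Asq true u hu) he
  have htu : zpowers (t * u) ≤ A false ⊔ A true :=
    zpowers_le.2 (mul_mem (mem_sup_left ht) (mem_sup_right hu))
  have hgL : g ∈ A false ⊔ A true := htu hg
  -- `t z` is a conjugate of an element of `A i`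
  obtain ⟨i, a, ha, ha1, hta⟩ : ∃ i, ∃ a ∈ A i, a ≠ 1 ∧ t * z = g * a * g⁻¹ := by
    rcases hor with h1 | h1
    · exact ⟨false, t, ht, ht1, h1⟩
    · exact ⟨true, u, hu, hu1, h1⟩
  have htt := h.Asq false t ht
  have hzz : z * z = 1 := by
    have h1 : (t * z) * (t * z) = 1 := by
      rw [hta]
      calc g * a * g⁻¹ * (g * a * g⁻¹) = g * (a * a) * g⁻¹ := by group
        _ = 1 := by rw [h.Asq i a ha]; group
    calc z * z = (t * t) * (z * z) := by rw [htt, one_mul]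
      _ = (t * z) * (t * z) := by
        have : t * z * (t * z) = t * (z * t) * z := by group
        rw [this, ← htz]; group
      _ = 1 := h1
  have hcen : ∀ (i : Bool) (x : MulAut M), x ∈ A i → x ≠ 1 → x * z = z * x → ∀ m ∈ B i, z m ∈ B i := by
    intro i x hx hx1 hxz m hm
    apply h.free i x hx hx1
    have h1 : (x * z) m = (z * x) m := by rw [hxz]
    change x (z m) = z (x m) at h1
    rw [h1, h.fix i x hx m hm]
  -- a fixed point of `z` on `B₀`
  obtain ⟨m, hm, hm1⟩ : ∃ m ∈ B false, m ≠ 1 := by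
    have h1 := h.ne false
    by_contra hcon
    push Not at hcon
    exact h1 (eq_bot_iff.2 fun x hx => mem_bot.2 (hcon x hx))
  obtain ⟨n, hn, hn1, hzn⟩ : ∃ n ∈ B false, n ≠ 1 ∧ z n = n := by
    by_cases h1 : m * z m = 1
    · refine ⟨m, hm, hm1, ?_⟩
      have h2 : z m = m⁻¹ := (inv_eq_of_mul_eq_one_right h1).symm
      rw [h2]
      exact inv_eq_of_mul_eq_one_right (h.sq m)
    · refine ⟨m * z m, mul_mem hm (hcen false t ht ht1 htz m hm), h1, ?_⟩
      have h2 : z (z m) = m := by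
        change (z * z) m = m
        rw [hzz]; rfl
      rw [map_mul, h2, h.comm]
  have hn2 : (t * z) n = n := by
    change t (z n) = n
    rw [hzn, h.fix false t ht n hn]
  rw [hta, h.mem_of_conj ha ha1] at hn2
  have hB : (B i).map (g : M ≃* M).toMonoidHom = B false := by
    rcases h.spread i false g hgL with h1 | h1
    · exact h1
    · exfalso
      apply hn1
      have h2 : n ∈ (B i).map (g : M ≃* M).toMonoidHom ⊓ B false := ⟨hn2, hn⟩
      rw [h1] at h2
      exact mem_bot.1 h2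
  have hA := h.stab i false g hgL hB
  have htz' : t * z ∈ A false := by
    rw [← hA, hta]
    exact ⟨a, ha, rfl⟩
  have hzA : z ∈ A false := by
    have h1 := mul_mem (inv_mem ht) htz'
    rwa [inv_mul_cancel_left] at h1
  apply h.ne true
  rw [eq_bot_iff]
  intro k hk
  have h1 : z k ∈ B true := hcen true u hu hu1 huz k hk
  have h2 : z k * k⁻¹ ∈ B false ⊓ B true := mem_inf.2 ⟨h.into false z hzA k, mul_mem h1 (inv_mem hk)⟩
  rw [h.disj, mem_bot, mul_inv_eq_one] at h2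
  have h3 : k ∈ B false ⊓ B true := ⟨h.free false z hzA hz1 k h2, hk⟩
  rwa [h.disj] at h3

end Spr

/-- two involutions with a product of odd order are conjugate -/
theorem exists_conj_of_odd {G : Type*} [Group G] {t u : G} (ht : t * t = 1) (hu : u * u = 1)
    (ho : Odd (orderOf (t * u))) : ∃ g ∈ zpowers (t * u), g * t * g⁻¹ = u := by
  obtain ⟨k, hk⟩ := ho
  have hti : t⁻¹ = t := inv_eq_of_mul_eq_one_left ht
  have hdi : (t * u)⁻¹ = u * t := by rw [mul_inv_rev, hti, inv_eq_of_mul_eq_one_left hu]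
  have htd : t * (t * u) * t = (t * u)⁻¹ := by rw [hdi, ← mul_assoc, ht, one_mul]
  refine ⟨(t * u) ^ k, pow_mem (mem_zpowers _) k, ?_⟩
  have h1 := TI.mul_pow_of_inv ht htd k
  -- `t d^k = d^{-k} t`
  have h2 : (t * u) ^ k * t = t * ((t * u) ^ k)⁻¹ := by
    calc (t * u) ^ k * t = t * t * ((t * u) ^ k * t) := by rw [ht, one_mul]
      _ = t * (t * (t * u) ^ k) * t := by group
      _ = t * (((t * u) ^ k)⁻¹ * t) * t := by rw [h1]
      _ = t * ((t * u) ^ k)⁻¹ * (t * t) := by group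
      _ = t * ((t * u) ^ k)⁻¹ := by rw [ht, mul_one]
  have h3 : (t * u) ^ (2 * k + 1) = 1 := by rw [← hk]; exact pow_orderOf_eq_one _
  have h4 : ((t * u) ^ k)⁻¹ * ((t * u) ^ k)⁻¹ = t * u := by
    rw [← mul_inv_rev, ← pow_add, ← two_mul]
    rw [pow_succ] at h3
    exact (eq_inv_of_mul_eq_one_right h3).symm
  calc (t * u) ^ k * t * ((t * u) ^ k)⁻¹ = t * (((t * u) ^ k)⁻¹ * ((t * u) ^ k)⁻¹) := by
        rw [h2, mul_assoc]
    _ = t * (t * u) := by rw [h4]
    _ = u := by rw [← mul_assoc, ht, one_mul]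

namespace Spr

variable (h : Spr B A)
include h

/-- **the stabiliser of `B₀` is transitive on `A₀#`** -/
theorem trans [Finite M] {t t' : MulAut M} (ht : t ∈ A false) (ht1 : t ≠ 1) (ht' : t' ∈ A false) (ht1' : t' ≠ 1) :
    ∃ y ∈ A false ⊔ A true, y * t * y⁻¹ = t' ∧ (B false).map (y : M ≃* M).toMonoidHom = B false := by
  obtain ⟨u, hu, hu1⟩ : ∃ u ∈ A true, u ≠ 1 := by
    have h1 := h.Ane true
    by_contra hcon
    push Not at hcon
    exact h1 (eq_bot_iff.2 fun x hx => mem_bot.2 (hcon x hx))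
  obtain ⟨g, hg, hgt⟩ := exists_conj_of_odd (h.Asq false t ht) (h.Asq true u hu) (h.odd ht ht1 hu hu1)
  obtain ⟨g', hg', hgt'⟩ := exists_conj_of_odd (h.Asq false t' ht') (h.Asq true u hu) (h.odd ht' ht1' hu hu1)
  have hz : ∀ x ∈ A false, zpowers (x * u) ≤ A false ⊔ A true := fun x hx =>
    zpowers_le.2 (mul_mem (mem_sup_left hx) (mem_sup_right hu))
  have hy : (g'⁻¹ * g) * t * (g'⁻¹ * g)⁻¹ = t' := by
    calc g'⁻¹ * g * t * (g'⁻¹ * g)⁻¹ = g'⁻¹ * (g * t * g⁻¹) * g' := by group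
      _ = g'⁻¹ * (g' * t' * g'⁻¹) * g' := by rw [hgt, hgt']
      _ = t' := by group
  refine ⟨g'⁻¹ * g, mul_mem (inv_mem (hz t' ht' hg')) (hz t ht hg), hy, ?_⟩
  ext m
  rw [← h.mem_of_conj ht ht1, hy]
  exact ⟨fun h1 => h.free false t' ht' ht1' m h1, fun h1 => h.fix false t' ht' m h1⟩

end Spr

end spr

namespace Hyp

variable {G : Type u} [Group G] {V F : Subgroup G} (h : Hyp V F)
include h

/-- **`N(V) ∩ N(E) ∩ C(F)` is transitive on `(V / E)#`.** -/
theorem trans [Finite G]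
    (hF0 : ∀ y ∈ centralizer (F : Set G), MulAut.conj y • EE V F = EE V F →
      ∃ z ∈ centralizer (EE V F : Set G), MulAut.conj y • V = MulAut.conj z • V)
    {v w : G} (hv : v ∈ V) (hvE : v ∉ EE V F) (hw : w ∈ V) (hwE : w ∉ EE V F) :
    ∃ l ∈ normalizer (V : Set G), l ∈ normalizer (EE V F : Set G) ∧ l ∈ centralizer (F : Set G) ∧
      w⁻¹ * (l * v * l⁻¹) ∈ EE V F := by
  obtain ⟨x, hx, hb, -, -⟩ := h.exists_near hv hvE
  obtain ⟨M, _, ⟨s⟩⟩ := exists_sectEX (V := V) hx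
  have spr := h.exists_spr hx hb hF0 s
  have hgood := h.good_gi hx hb
  have : Finite M := Finite.of_surjective s.π s.surj
  have hVH : V ≤ HX V F x := by
    have := h.conjV_le_HX (h.good_one hx hb)
    rwa [map_one, one_smul] at this
  have e0V : MulAut.conj (gi x false) • V = V := by
    change MulAut.conj (1 : G) • V = V
    rw [map_one, one_smul]
  have e0 : MulAut.conj (gi x false) • EE V F = EE V F := by
    change MulAut.conj (1 : G) • EE V F = EE V F
    rw [map_one, one_smul]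
  have hker : ∀ (k : G) (hk : k ∈ V), s.ρ ⟨k, hVH hk⟩ = 1 ↔ k ∈ EE V F := by
    intro k hk
    rw [s.ρ_eq_one_iff]
    have h1 := h.ker_conj hx hb (h.good_one hx hb) (k := k) (by rw [map_one, one_smul]; exact hk)
    rw [map_one, one_smul] at h1
    exact h1
  have hmA : ∀ (k : G) (hk : k ∈ V), s.ρ ⟨k, hVH hk⟩ ∈ s.A (MulAut.conj (gi x false) • V) := by
    intro k hk
    exact ⟨⟨k, hVH hk⟩, by rw [e0V]; exact hk, rfl⟩
  obtain ⟨y, hy, hyt, hyB⟩ := spr.trans (hmA v hv) (fun h1 => hvE ((hker v hv).1 h1)) (hmA w hw)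
    (fun h1 => hwE ((hker w hw).1 h1))
  rw [s.A_sup (h.conjV_le_HX (hgood false)) (h.conjV_le_HX (hgood true))] at hy
  obtain ⟨l, -, rfl⟩ := hy
  rw [e0, s.B_map] at hyB
  have hlF : (l : G) ∈ centralizer (F : Set G) := l.2.2
  have hlg : Good V F x ((l : G) * 1) := (h.good_one hx hb).mul l.2.1 l.2.2
  rw [mul_one] at hlg
  have hlE : MulAut.conj (l : G) • EE V F = EE V F :=
    s.B_inj (h.F_le_conjE hlF) hlg.le h.F_le_E le_sup_left hyB
  obtain ⟨z, hz, hlz⟩ := hF0 _ hlF hlE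
  have hzF : z ∈ centralizer (F : Set G) := centralizer_le h.F_le_E hz
  have hzE : MulAut.conj z • EE V F = EE V F := conj_eq_of_cent hz
  have hmV : MulAut.conj (z⁻¹ * l) • V = V := by
    rw [← conj_conj, hlz, conj_conj, inv_mul_cancel, map_one, one_smul]
  have hmE : MulAut.conj (z⁻¹ * l) • EE V F = EE V F := by
    rw [← conj_conj, hlE]
    have := conj_eq_of_cent (inv_mem hz)
    exact this
  refine ⟨z⁻¹ * l, TI.norm_of_conj_eq hmV, TI.norm_of_conj_eq hmE, mul_mem (inv_mem hzF) hlF, ?_⟩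
  have hv' : z⁻¹ * l * v * (z⁻¹ * l)⁻¹ ∈ V := by
    have h1 : z⁻¹ * l * v * (z⁻¹ * l)⁻¹ ∈ MulAut.conj (z⁻¹ * (l : G)) • V := Frame.conj_mem hv
    rwa [hmV] at h1
  set v' := z⁻¹ * l * v * (z⁻¹ * l)⁻¹ with hv'def
  -- `v' ≡ l v l⁻¹ ≡ w`
  have hlv : (l : G) * v * (l : G)⁻¹ = z * v' * z⁻¹ := by rw [hv'def]; group
  have hzH : z * v' * z⁻¹ ∈ HX V F x := by
    rw [← hlv]
    exact mul_mem (mul_mem l.2 (hVH hv)) (inv_mem l.2)
  have h1 : s.ρ ⟨v', hVH hv'⟩ = s.ρ ⟨z * v' * z⁻¹, hzH⟩ := by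
    rw [s.ρ_eq_iff]
    intro n hn
    have hnW : n ∈ WW V F := EEx_le_W hx hn
    have h2 := h.comm_conj_mem hz hv' hnW
    have h3 := norm_mem' (X_norm_F (W_le_X hnW)) h2
    have e : n⁻¹ * ((c v' n)⁻¹ * c (z * v' * z⁻¹) n) * n =
        (v' * n * v'⁻¹)⁻¹ * (z * v' * z⁻¹ * n * (z * v' * z⁻¹)⁻¹) := by
      rw [c, c]; group
    rwa [e] at h3
  have h2 : s.ρ ⟨z * v' * z⁻¹, hzH⟩ = s.ρ ⟨w, hVH hw⟩ := by
    rw [← hyt, ← map_inv, ← map_mul, ← map_mul]
    congr 1
    apply Subtype.ext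
    exact hlv.symm
  have h3 : s.ρ ⟨w⁻¹ * v', hVH (mul_mem (inv_mem hw) hv')⟩ = 1 := by
    have e : (⟨w⁻¹ * v', hVH (mul_mem (inv_mem hw) hv')⟩ : HX V F x) = (⟨w, hVH hw⟩)⁻¹ * ⟨v', hVH hv'⟩ := rfl
    rw [e, map_mul, map_inv, h1, h2, inv_mul_cancel]
  exact (hker _ (mul_mem (inv_mem hw) hv')).1 h3

end Hyp

end Cfsg.Agent.Omega.NOne.Flat
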