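import Cfsg.Agent.AschCrit.Frame
import Cfsg.Agent.SignalizersComponents.CoprimeGen
import Cfsg.Agent.Lib.NormalAbelian
import Cfsg.Agent.S0215

/-!
# N1, THEOREM FIELD (bb #15909), (F3): a group generated by two conjugates of an elementary abelian `A`

`SE A H` : `A ⊴ H < L` elementary abelian 2-group, `C_L(a) ≤ H` and `a ^ g ∈ H → g ∈ H` for `1 ≠ a ∈ A`,
`L = ⟨A, A^x⟩`.

* `core_eq_center` : the core of `H` is the centre of `L`, `A ∩ Z(L) = 1`
* `exists_setup` : the set-up of Aschbacher's criterion on `L ⧸ H`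
* `nonIso` : `z` is not isolated if `|A| ≥ 4`
-/

set_option autoImplicit false

open Subgroup

namespace Cfsg.Agent.Omega.NO1.Field

open Cfsg.Agent.AschCrit.Basic Cfsg.Agent.AschCrit.NonIso

/-- the input of (F3) -/
structure SE {L : Type*} [Group L] (A H : Subgroup L) : Prop where
  le : A ≤ H
  comm : ∀ a ∈ A, ∀ b ∈ A, a * b = b * a
  sq : ∀ a ∈ A, a * a = 1
  nor : ∀ g ∈ H, ∀ a ∈ A, g * a * g⁻¹ ∈ A
  cen : ∀ a ∈ A, a ≠ 1 → centralizer ({a} : Set L) ≤ H
  fus : ∀ a ∈ A, a ≠ 1 → ∀ g, g * a * g⁻¹ ∈ H → g ∈ H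
  gen : ∃ x, A ⊔ A.map (MulAut.conj x).toMonoidHom = ⊤
  ne : H ≠ ⊤

namespace SE

variable {L : Type*} [Group L] {A H : Subgroup L} (h : SE A H)
include h

theorem A_ne : A ≠ ⊥ := by
  rintro rfl
  obtain ⟨x, hx⟩ := h.gen
  rw [Subgroup.map_bot, sup_bot_eq] at hx
  apply h.ne
  rw [eq_top_iff, ← hx]
  exact bot_le

/-- an element of `A` which is conjugate into `A` by `g` : `g ∈ H` -/
theorem mem_H_of_conj {a g : L} (ha : a ∈ A) (ha1 : a ≠ 1) (hg : g * a * g⁻¹ ∈ H) : g ∈ H :=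
  h.fus a ha ha1 g hg

theorem eq_one_of_core {a : L} (ha : a ∈ A) (hN : a ∈ H.normalCore) : a = 1 := by
  by_contra ha1
  apply h.ne
  rw [eq_top_iff]
  intro g _
  exact h.fus a ha ha1 g (hN g)

omit h in
/-- elements commuting with `A` and `A ^ x` are central -/
theorem mem_center {n x : L} (hx : A ⊔ A.map (MulAut.conj x).toMonoidHom = ⊤)
    (h1 : ∀ a ∈ A, n * a = a * n) (h2 : ∀ a ∈ A, n * (x * a * x⁻¹) = (x * a * x⁻¹) * n) :
    n ∈ center L := by
  have hle : A ⊔ A.map (MulAut.conj x).toMonoidHom ≤ centralizer ({n} : Set L) := by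
    refine sup_le ?_ ?_
    · intro a ha
      rw [mem_centralizer_singleton_iff]
      exact (h1 a ha).symm
    · rintro _ ⟨a, ha, rfl⟩
      rw [mem_centralizer_singleton_iff]
      exact (h2 a ha).symm
  rw [hx] at hle
  rw [mem_center_iff]
  intro g
  exact (mem_centralizer_singleton_iff.1 (hle (mem_top g)))

/-- **the core of `H` is the centre** -/
theorem core_eq_center : H.normalCore = center L := by
  obtain ⟨x, hx⟩ := h.gen
  apply le_antisymm
  · intro n hn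
    have key : ∀ n ∈ H.normalCore, ∀ a ∈ A, n * a = a * n := by
      intro n hn a ha
      have h1 : n * a * n⁻¹ * a⁻¹ ∈ A := mul_mem (h.nor n (H.normalCore_le hn) a ha) (inv_mem ha)
      have h2 : n * a * n⁻¹ * a⁻¹ ∈ H.normalCore := by
        have h3 := mul_mem hn (H.normalCore_normal.conj_mem n⁻¹ (inv_mem hn) a)
        have e : n * (a * n⁻¹ * a⁻¹) = n * a * n⁻¹ * a⁻¹ := by group
        rwa [e] at h3
      have h4 := h.eq_one_of_core h1 h2
      calc n * a = (n * a * n⁻¹ * a⁻¹) * (a * n) := by group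
        _ = a * n := by rw [h4, one_mul]
    refine mem_center hx (key n hn) (fun a ha => ?_)
    have h1 := key (x⁻¹ * n * x⁻¹⁻¹) (H.normalCore_normal.conj_mem n hn x⁻¹) a ha
    calc n * (x * a * x⁻¹) = x * ((x⁻¹ * n * x⁻¹⁻¹) * a) * x⁻¹ := by group
      _ = x * (a * (x⁻¹ * n * x⁻¹⁻¹)) * x⁻¹ := by rw [h1]
      _ = (x * a * x⁻¹) * n := by group
  · obtain ⟨a, ha⟩ := (Subgroup.ne_bot_iff_exists_ne_one.1 h.A_ne)
    have hc : center L ≤ H := by
      intro c hc
      refine h.cen a.1 a.2 (fun hh => ha (Subtype.ext hh)) ?_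
      rw [mem_centralizer_singleton_iff]
      exact ((mem_center_iff.1 hc) a).symm
    exact normal_le_normalCore.2 hc

theorem isPGroup : IsPGroup 2 A := fun a => ⟨1, Subtype.ext (by
  have := h.sq a a.2
  simpa [pow_two] using this)⟩

/-- a Sylow 2-subgroup containing `A` lies in `H` -/
theorem sylow_le [Finite L] (S : Sylow 2 L) (hS : A ≤ S) : (S : Subgroup L) ≤ H := by
  by_contra hcon
  obtain ⟨a, ha⟩ := (Subgroup.ne_bot_iff_exists_ne_one.1 h.A_ne)
  have : Group.IsNilpotent (S : Subgroup L) := S.isPGroup'.isNilpotent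
  set X : Subgroup (S : Subgroup L) := H.subgroupOf S with hX
  have hXlt : X < ⊤ := by
    rw [lt_top_iff_ne_top]
    intro hh
    apply hcon
    rwa [hX, subgroupOf_eq_top] at hh
  have h1 := Group.normalizerCondition_of_isNilpotent X hXlt
  obtain ⟨s, hs, hsX⟩ := SetLike.exists_of_lt h1
  have haX : (⟨a, hS a.2⟩ : (S : Subgroup L)) ∈ X := mem_subgroupOf.2 (h.le a.2)
  have h2 := (mem_normalizer_iff.1 hs _).1 haX
  rw [hX, mem_subgroupOf] at h2
  apply hsX
  rw [hX, mem_subgroupOf]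
  exact h.fus a a.2 (fun hh => ha (Subtype.ext hh)) s h2

/-- an involution of `A` which is central in a Sylow 2-subgroup -/
theorem exists_central [Finite L] : ∃ (S : Sylow 2 L) (z : L), A ≤ S ∧ z ∈ A ∧ z ∈ S ∧ orderOf z = 2 ∧
    ∀ s ∈ S, Commute s z := by
  obtain ⟨S, hS⟩ := h.isPGroup.exists_le_sylow
  have hSH := h.sylow_le S hS
  have hn : (A.subgroupOf (S : Subgroup L)).Normal := by
    refine ⟨fun x hx g => ?_⟩
    rw [mem_subgroupOf] at hx ⊢
    exact h.nor g (hSH g.2) x hx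
  have hne : A.subgroupOf (S : Subgroup L) ≠ ⊥ := by
    intro hh
    apply h.A_ne
    rw [subgroupOf_eq_bot] at hh
    rw [Subgroup.eq_bot_iff_forall]
    intro x hx
    exact (disjoint_def.1 hh) hx (hS hx)
  have : Group.IsNilpotent (S : Subgroup L) := S.isPGroup'.isNilpotent
  have hmeet := Cfsg.Agent.Lib.NormalAbelian.normal_inf_center_ne_bot _ hne
  obtain ⟨w, hw⟩ := (Subgroup.ne_bot_iff_exists_ne_one.1 hmeet)
  have hwA : ((w : (S : Subgroup L)) : L) ∈ A := mem_subgroupOf.1 w.2.1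
  refine ⟨S, (w : (S : Subgroup L)), hS, hwA, (w : (S : Subgroup L)).2, ?_, ?_⟩
  · refine orderOf_eq_prime (by rw [pow_two]; exact h.sq _ hwA) (fun hh => hw ?_)
    exact Subtype.ext (Subtype.ext hh)
  · intro s hs
    have h1 := mem_center_iff.1 w.2.2 ⟨s, hs⟩
    exact congrArg Subtype.val h1

/-- **the set-up of Aschbacher's criterion** -/
theorem exists_setup [Finite L] : ∃ z ∈ A, orderOf z = 2 ∧ Setup L (L ⧸ H) z ∧
    ∃ S : Sylow 2 L, z ∈ S ∧ ∀ s ∈ S, Commute s z := by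
  obtain ⟨S, z, hS, hzA, hzS, hz, hc⟩ := h.exists_central
  have hz1 : z ≠ 1 := by
    intro hh; rw [hh, orderOf_one] at hz; omega
  refine ⟨z, hzA, hz, ?_, S, hzS, hc⟩
  refine Cfsg.Agent.AschCrit.Frame.setup_quotient H h.ne z hz (h.le hzA) ⟨S, hzS, hc⟩
    (fun g hg => h.fus z hzA hz1 g hg) ?_
  intro g hcm hne
  have h1 : g * z * g⁻¹ ∈ H := by
    apply h.cen z hzA hz1
    rw [mem_centralizer_singleton_iff]
    exact hcm.eq.symm
  have hg := h.fus z hzA hz1 g h1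
  have h2 := h.nor g hg z hzA
  refine h.cen _ (mul_mem hzA h2) (fun hh => hne ?_)
  have h3 : g * z * g⁻¹ = z⁻¹ := eq_inv_of_mul_eq_one_right hh
  rw [h3]
  exact inv_eq_of_mul_eq_one_left (h.sq z hzA)

/-- **`z` is not isolated** -/
theorem nonIso [Finite L] (h4 : 4 ≤ Nat.card A) {z : L} (hzA : z ∈ A) (hz : orderOf z = 2)
    (hS : ∃ S : Sylow 2 L, z ∈ S ∧ ∀ s ∈ S, Commute s z) : NonIso z := by
  by_contra hcon
  have hz1 : z ≠ 1 := by
    intro hh; rw [hh, orderOf_one] at hz; omega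
  have hiso : ∀ d : L, IsConj z d → Commute z d → d = z := by
    intro d hd hc
    by_contra hne
    exact hcon ⟨d, hd, hc, hne⟩
  obtain ⟨S, hzS, hS⟩ := hS
  obtain ⟨N, hN, hodd, hcomm⟩ := Cfsg.Agent.S0215.result S z hz hzS (by
    intro g hg
    exact hiso _ (isConj_iff.mpr ⟨g, rfl⟩) (hS _ hg).symm)
  have hA : Cfsg.IsElementaryAbelian 2 A :=
    ⟨⟨⟨fun x y => Subtype.ext (h.comm x x.2 y y.2)⟩⟩, fun a ha => by rw [pow_two]; exact h.sq a ha⟩
  have hNH : N ≤ H := by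
    refine (Cfsg.Agent.SignalizersComponents.CoprimeGen.le_iSup_centralizer_ne_one (p := 2) hA
      (by simpa using h4) (fun hd => ?_) (fun x _ => ?_)).trans ?_
    · rw [← even_iff_two_dvd, ← Nat.not_odd_iff_even] at hd
      exact hd hodd
    · rw [mem_normalizer_iff]
      intro y
      refine ⟨fun hy => hN.conj_mem y hy x, fun hy => ?_⟩
      have := hN.conj_mem _ hy x⁻¹
      have e : x⁻¹ * (x * y * x⁻¹) * x⁻¹⁻¹ = y := by group
      rwa [e] at this
    · exact iSup_le fun a => inf_le_right.trans (h.cen a a.2.1 a.2.2)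
  have hNc : N ≤ center L := by
    rw [← h.core_eq_center]
    exact normal_le_normalCore.2 hNH
  -- `z` is central
  have hzc : z ∈ center L := by
    rw [mem_center_iff]
    intro g
    have h1 := mem_center_iff.1 (hNc (hcomm g))
    have h2 : g * z * g⁻¹ = z := by
      apply hiso _ (isConj_iff.mpr ⟨g, rfl⟩)
      -- `z * g * z⁻¹ * g⁻¹` is central, `g * z * g⁻¹ = (z g z⁻¹ g⁻¹)⁻¹ z`
      have h3 := h1 z
      have e : g * z * g⁻¹ = (z * g * z⁻¹ * g⁻¹)⁻¹ * z := by group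
      show z * (g * z * g⁻¹) = g * z * g⁻¹ * z
      have h4 : z * (z * g * z⁻¹ * g⁻¹)⁻¹ = (z * g * z⁻¹ * g⁻¹)⁻¹ * z := by
        calc z * (z * g * z⁻¹ * g⁻¹)⁻¹ =
            (z * g * z⁻¹ * g⁻¹)⁻¹ * ((z * g * z⁻¹ * g⁻¹) * z) * (z * g * z⁻¹ * g⁻¹)⁻¹ := by group
          _ = (z * g * z⁻¹ * g⁻¹)⁻¹ * (z * (z * g * z⁻¹ * g⁻¹)) * (z * g * z⁻¹ * g⁻¹)⁻¹ := by rw [h3]
          _ = _ := by group
      rw [e, ← mul_assoc, h4]
    calc g * z = (g * z * g⁻¹) * g := by group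
      _ = z * g := by rw [h2]
  apply hz1
  apply h.eq_one_of_core hzA
  rw [h.core_eq_center]
  exact hzc

end SE

end Cfsg.Agent.Omega.NO1.Field
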