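import Cfsg.Agent.Omega.NO1.Field.SzCore

/-!
# CLAIM A of THEOREM SZ

`h : SzM H P B` (`P` a finite elementary abelian 2-group with an action of `Sz(q)`, `C_P(z) = B` for all `z ∈ Z(T)#`,
`B ∩ B^g = 0` for some `g`).

* `SzM.com` : `B = [P, z]`; `SzM.span` : `P = B + wB`;
* `SzM.fx_of` : `C_B(t) = C_B(T)` for `t ∈ T - Z(T)`;
* `SzM.comm_fx`, `SzM.exists_comm` : `C_B(T) = [B, t] = [B, T]`;
* `SzM.card_sq` : `|C_B(T)|² = |B|`.
-/

set_option autoImplicit false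
set_option linter.unusedSectionVars false

namespace Cfsg.Agent.Omega.NO1.Field.SzA

open Matrix
open Cfsg.Agent.LieRecognition.SzMatrix Cfsg.Agent.ThreePrime.SzRel Cfsg.Agent.Omega.TwoFFour

universe u

variable {F : Type*} [Field F] {θ : F →+* F} {e : ℕ} {H : Good F θ e}

section counting

variable {P : Type*} [AddCommGroup P] [DistribMulAction (LS F e) P] {B : AddSubgroup P}

namespace SzM

variable (h : SzM H P B)
include h

/-- `[P, z] ≤ B` -/
theorem sub_mem {b : F} (m : P) : H.u 0 b • m - m ∈ B := by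
  by_cases hb : b = 0
  · rw [hb, H.u_zero, one_smul, sub_self]; exact B.zero_mem
  · rw [← h.fix b hb, smul_sub, ← mul_smul, H.u_mul]
    have e1 : H.u (0 + 0) (b + b + 0 * θ 0) = 1 := by
      rw [add_zero, zero_mul, add_zero, H.add_self, H.u_zero]
    rw [e1, one_smul]
    have h2 := h.two (H.u 0 b • m - m)
    rw [eq_comm, ← sub_eq_zero]
    rw [← h2]
    abel

/-- the commutator map `N → N ∩ B` -/
def cm (X : AddSubgroup P) (hX : ∀ g : LS F e, ∀ x ∈ X, g • x ∈ X) (b : F) : X →+ ↥(X ⊓ B) where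
  toFun x := ⟨H.u 0 b • x.1 - x.1, X.sub_mem (hX _ _ x.2) x.2, h.sub_mem _⟩
  map_zero' := Subtype.ext (by
    show H.u 0 b • (0 : P) - 0 = 0
    rw [smul_zero, sub_zero])
  map_add' x y := Subtype.ext (by
    show H.u 0 b • (x.1 + y.1) - (x.1 + y.1) = H.u 0 b • x.1 - x.1 + (H.u 0 b • y.1 - y.1)
    rw [smul_add]
    abel)

theorem cm_ker (X : AddSubgroup P) (hX : ∀ g : LS F e, ∀ x ∈ X, g • x ∈ X) {b : F} (hb : b ≠ 0) (x : X) :
    x ∈ (h.cm X hX b).ker ↔ (x : P) ∈ B := by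
  rw [AddMonoidHom.mem_ker, ← h.fix b hb]
  constructor
  · intro h1
    exact sub_eq_zero.1 (congrArg Subtype.val h1)
  · intro h1
    exact Subtype.ext (sub_eq_zero.2 h1)

/-- the map `(N ∩ B) × (N ∩ B) → N` -/
def sp2 (X : AddSubgroup P) (hX : ∀ g : LS F e, ∀ x ∈ X, g • x ∈ X) (x : ↥(X ⊓ B) × ↥(X ⊓ B)) : X :=
  ⟨x.1.1 + H.w • x.2.1, X.add_mem x.1.2.1 (hX _ _ x.2.2.1)⟩

theorem sp2_inj (X : AddSubgroup P) (hX : ∀ g : LS F e, ∀ x ∈ X, g • x ∈ X) :
    Function.Injective (sp2 (H := H) (B := B) X hX) := by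
  rintro ⟨x, y⟩ ⟨x', y'⟩ hxy
  have h1 : x.1 + H.w • y.1 = x'.1 + H.w • y'.1 := congrArg Subtype.val hxy
  have h2 : H.w • (y.1 - y'.1) = x'.1 - x.1 := by
    rw [smul_sub]
    have h2 : H.w • y.1 = x'.1 + H.w • y'.1 - x.1 := by
      rw [← h1]
      abel
    rw [h2]
    abel
  have h4 : y.1 - y'.1 = 0 := h.disj_w (B.sub_mem y.2.2 y'.2.2) (by
    rw [h2]
    exact B.sub_mem x'.2.2 x.2.2)
  have h5 : x.1 = x'.1 := by
    rw [h4, smul_zero] at h2
    exact (sub_eq_zero.1 h2.symm).symm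
  exact Prod.ext (Subtype.ext h5) (Subtype.ext (sub_eq_zero.1 h4))

theorem count [Finite P] (X : AddSubgroup P) (hX : ∀ g : LS F e, ∀ x ∈ X, g • x ∈ X) {b : F} (hb : b ≠ 0) :
    Function.Surjective (h.cm X hX b) ∧ Function.Surjective (sp2 (H := H) (B := B) X hX) := by
  have c1 : Nat.card (↥(X ⊓ B) × ↥(X ⊓ B)) ≤ Nat.card X := Nat.card_le_card_of_injective _ (h.sp2_inj X hX)
  rw [Nat.card_prod] at c1
  have c2 : Nat.card (h.cm X hX b).ker * Nat.card (h.cm X hX b).range = Nat.card X := by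
    rw [← AddSubgroup.index_ker, AddSubgroup.card_mul_index]
  have c3 : Nat.card (h.cm X hX b).ker ≤ Nat.card ↥(X ⊓ B) := by
    refine Nat.card_le_card_of_injective
      (fun x : (h.cm X hX b).ker => (⟨x.1.1, x.1.2, (h.cm_ker X hX hb x.1).1 x.2⟩ : ↥(X ⊓ B))) ?_
    intro x y hxy
    have h1 := congrArg Subtype.val hxy
    exact Subtype.ext (Subtype.ext h1)
  have c4 : Nat.card (h.cm X hX b).range ≤ Nat.card ↥(X ⊓ B) :=
    Nat.card_le_card_of_injective _ Subtype.val_injective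
  have hpos : 0 < Nat.card ↥(X ⊓ B) := Nat.card_pos
  have c5 : Nat.card ↥(X ⊓ B) ≤ Nat.card (h.cm X hX b).range := by
    refine Nat.le_of_mul_le_mul_left (c1.trans ?_) hpos
    rw [← c2]
    exact Nat.mul_le_mul_right _ c3
  refine ⟨?_, ?_⟩
  · rw [← AddMonoidHom.range_eq_top]
    exact AddSubgroup.eq_top_of_le_card _ c5
  · refine ((h.sp2_inj X hX).bijective_of_nat_card_le ?_).2
    rw [Nat.card_prod, ← c2]
    exact Nat.mul_le_mul c3 c4

/-- `[N, z] = N ∩ B` for every submodule `N` -/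
theorem sub_com [Finite P] (X : AddSubgroup P) (hX : ∀ g : LS F e, ∀ x ∈ X, g • x ∈ X) {b : F} (hb : b ≠ 0) {m : P}
    (hm : m ∈ X) (hm' : m ∈ B) : ∃ n ∈ X, H.u 0 b • n - n = m := by
  obtain ⟨n, hn⟩ := (h.count X hX hb).1 ⟨m, hm, hm'⟩
  exact ⟨n, n.2, congrArg Subtype.val hn⟩

/-- `N = (N ∩ B) + (N ∩ wB)` for every submodule `N` -/
theorem sub_span [Finite P] (X : AddSubgroup P) (hX : ∀ g : LS F e, ∀ x ∈ X, g • x ∈ X) {m : P} (hm : m ∈ X) :
    ∃ c c' : P, c ∈ X ∧ c ∈ B ∧ c' ∈ X ∧ c' ∈ B ∧ c + H.w • c' = m := by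
  obtain ⟨⟨c, c'⟩, hcc⟩ := (h.count X hX one_ne_zero).2 ⟨m, hm⟩
  exact ⟨c, c', c.2.1, c.2.2, c'.2.1, c'.2.2, congrArg Subtype.val hcc⟩

/-- `B = [P, z]` -/
theorem com [Finite P] {b : F} (hb : b ≠ 0) {m : P} (hm : m ∈ B) : ∃ n, H.u 0 b • n - n = m := by
  obtain ⟨n, -, hn⟩ := h.sub_com ⊤ (fun _ _ _ => AddSubgroup.mem_top _) hb (AddSubgroup.mem_top m) hm
  exact ⟨n, hn⟩

/-- `P = B + wB` -/
theorem span [Finite P] (m : P) : ∃ c ∈ B, ∃ c' ∈ B, c + H.w • c' = m := by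
  obtain ⟨c, c', -, h1, -, h2, h4⟩ := h.sub_span ⊤ (fun _ _ _ => AddSubgroup.mem_top _) (AddSubgroup.mem_top m)
  exact ⟨c, h1, c', h2, h4⟩

/-- `|P| = |B|²` -/
theorem card_eq [Finite P] : Nat.card P = Nat.card B ^ 2 := by
  have hbij : Function.Bijective (fun x : B × B => x.1.1 + H.w • x.2.1) := by
    constructor
    · rintro ⟨x, y⟩ ⟨x', y'⟩ hxy
      have h1 : x.1 + H.w • y.1 = x'.1 + H.w • y'.1 := hxy
      have h2 : H.w • (y.1 - y'.1) = x'.1 - x.1 := by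
        rw [smul_sub]
        have h2 : H.w • y.1 = x'.1 + H.w • y'.1 - x.1 := by
          rw [← h1]
          abel
        rw [h2]
        abel
      have h4 : y.1 - y'.1 = 0 := h.disj_w (B.sub_mem y.2 y'.2) (by
        rw [h2]
        exact B.sub_mem x'.2 x.2)
      have h5 : x.1 = x'.1 := by
        rw [h4, smul_zero] at h2
        exact (sub_eq_zero.1 h2.symm).symm
      exact Prod.ext (Subtype.ext h5) (Subtype.ext (sub_eq_zero.1 h4))
    · intro m
      obtain ⟨c, hc, c', hc', hcc⟩ := h.span m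
      exact ⟨(⟨c, hc⟩, ⟨c', hc'⟩), hcc⟩
  rw [← Nat.card_congr (Equiv.ofBijective _ hbij), Nat.card_prod, _root_.sq]

end SzM

end counting

section types

variable {P : Type u} [AddCommGroup P] [DistribMulAction (LS F e) P] {B : AddSubgroup P}

/-- the action on a submodule -/
@[reducible] def subAct (X : AddSubgroup P) (hX : ∀ g : LS F e, ∀ x ∈ X, g • x ∈ X) :
    DistribMulAction (LS F e) X where
  smul g x := ⟨g • x.1, hX g x x.2⟩
  one_smul _ := Subtype.ext (one_smul _ _)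
  mul_smul _ _ _ := Subtype.ext (mul_smul _ _ _)
  smul_zero g := Subtype.ext (smul_zero g)
  smul_add _ _ _ := Subtype.ext (smul_add _ _ _)

/-- the action on a quotient module -/
@[reducible] def quotAct (X : AddSubgroup P) (hX : ∀ g : LS F e, ∀ x ∈ X, g • x ∈ X) :
    DistribMulAction (LS F e) (P ⧸ X) where
  smul g x := QuotientAddGroup.map X X (DistribSMul.toAddMonoidHom P g) (fun x hx => hX g x hx) x
  one_smul x := by
    obtain ⟨x, rfl⟩ := QuotientAddGroup.mk_surjective x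
    show ((((1 : LS F e) • x : P)) : P ⧸ X) = x
    rw [one_smul]
  mul_smul g g' x := by
    obtain ⟨x, rfl⟩ := QuotientAddGroup.mk_surjective x
    show ((((g * g') • x : P)) : P ⧸ X) = ((g • g' • x : P) : P ⧸ X)
    rw [mul_smul]
  smul_zero g := map_zero _
  smul_add g x y := map_add _ x y

namespace SzM

variable (h : SzM H P B)
include h

theorem sub (X : AddSubgroup P) (hX : ∀ g : LS F e, ∀ x ∈ X, g • x ∈ X) :
    letI := subAct X hX
    SzM H X (B.addSubgroupOf X) := by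
  let _ := subAct X hX
  refine ⟨fun m => Subtype.ext (h.two m), fun b hb m => ?_, ?_⟩
  · rw [AddSubgroup.mem_addSubgroupOf, ← h.fix b hb]
    exact Subtype.ext_iff
  · obtain ⟨g, hg⟩ := h.disj
    refine ⟨g, fun m hm hm' => ?_⟩
    rw [AddSubgroup.mem_addSubgroupOf] at hm hm'
    exact Subtype.ext (hg m hm hm')

theorem quot [Finite P] (X : AddSubgroup P) (hX : ∀ g : LS F e, ∀ x ∈ X, g • x ∈ X) :
    letI := quotAct X hX
    SzM H (P ⧸ X) (B.map (QuotientAddGroup.mk' X)) := by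
  let _ := quotAct X hX
  have hsmul : ∀ (g : LS F e) (x : P), g • ((x : P) : P ⧸ X) = ((g • x : P) : P ⧸ X) := fun _ _ => rfl
  refine ⟨fun m => ?_, fun b hb m => ?_, H.w, fun m hm hm' => ?_⟩
  · obtain ⟨x, rfl⟩ := QuotientAddGroup.mk_surjective m
    rw [← QuotientAddGroup.mk_add, h.two]
    rfl
  · constructor
    · intro hm
      obtain ⟨x, rfl⟩ := QuotientAddGroup.mk_surjective m
      rw [hsmul, eq_comm, QuotientAddGroup.eq, neg_add_eq_sub] at hm
      obtain ⟨n, hn, hnx⟩ := h.sub_com X hX hb hm (h.sub_mem x)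
      refine ⟨x - n, ?_, ?_⟩
      · rw [SetLike.mem_coe, ← h.fix b hb, smul_sub]
        rw [← sub_eq_zero]
        calc H.u 0 b • x - H.u 0 b • n - (x - n) = (H.u 0 b • x - x) - (H.u 0 b • n - n) := by abel
          _ = 0 := by rw [hnx, sub_self]
      · show ((x - n : P) : P ⧸ X) = (x : P ⧸ X)
        rw [QuotientAddGroup.eq]
        have e1 : -(x - n) + x = n := by abel
        rwa [e1]
    · rintro ⟨x, hx, rfl⟩
      show H.u 0 b • ((x : P) : P ⧸ X) = (x : P ⧸ X)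
      rw [hsmul, h.fix1 hx]
  · obtain ⟨x, hx, rfl⟩ := hm
    obtain ⟨y, hy, hyx⟩ := hm'
    have h1 : ((y : P) : P ⧸ X) = ((H.w • x : P) : P ⧸ X) := hyx
    rw [QuotientAddGroup.eq] at h1
    obtain ⟨c, c', hcX, hcB, hcX', hcB', hcc⟩ := h.sub_span X hX h1
    have h2 : x - c' = 0 := h.disj_w (B.sub_mem hx hcB') (by
      have e1 : H.w • (x - c') = y + c := by
        rw [smul_sub]
        have : H.w • c' = -y + H.w • x - c := by
          rw [← hcc]
          abel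
        rw [this]
        abel
      rw [e1]
      exact B.add_mem hy hcB)
    have h4 : x = c' := sub_eq_zero.1 h2
    show ((x : P) : P ⧸ X) = 0
    rw [QuotientAddGroup.eq_zero_iff, h4]
    exact hcX'

theorem hy [Finite F] (h3 : 3 ≤ Nat.card F)
    (irr : ∀ X : AddSubgroup P, (∀ (g : LS F e), ∀ x ∈ X, g • x ∈ X) → X = ⊥ ∨ X = ⊤) (hne : ∃ x : P, x ≠ 0) :
    Hy H P := by
  refine ⟨h3, h.two, fun b c m => h.fix1 (h.sub_mem m), irr, ?_⟩
  obtain ⟨x, hx⟩ := hne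
  by_contra hcon
  push Not at hcon
  have h1 : ∀ m : P, m ∈ B := fun m => (h.fix 1 one_ne_zero m).1 (hcon _ _)
  exact hx (h.disj_w (h1 _) (h1 _))

end SzM

end types

section induction

/-- the induction -/
theorem fx_aux [Finite F] (h3 : 3 ≤ Nat.card F) : ∀ n : ℕ, ∀ (P : Type u) [AddCommGroup P]
    [DistribMulAction (LS F e) P] [Finite P] (B : AddSubgroup P), SzM H P B → Nat.card P = n →
    ∀ a b : F, a ≠ 0 → ∀ x ∈ B, H.u a b • x = x → Fx H x := by
  intro n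
  induction n using Nat.strong_induction_on with
  | _ n ih =>
  intro P _ _ _ B h hn
  by_cases hne : ∃ x : P, x ≠ 0
  swap
  · push Not at hne
    intro a b _ x _ _
    rw [hne x]
    exact Fx.zero
  by_cases hirr : ∀ X : AddSubgroup P, (∀ (g : LS F e), ∀ x ∈ X, g • x ∈ X) → X = ⊥ ∨ X = ⊤
  · -- natural
    obtain ⟨f, hbij, hadd, hf⟩ := (h.hy h3 hirr hne).exists_nat
    intro a b ha x hx hfix a' b'
    have h1 : mv (H.U 0 1) (f x) = f x := by
      have := hf (H.u 0 1) x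
      rw [h.fix1 hx] at this
      exact this.symm
    have h2 : mv (H.U a b) (f x) = f x := by
      have := hf (H.u a b) x
      rw [hfix] at this
      exact this.symm
    obtain ⟨h5, h6⟩ := (fix_Z H one_ne_zero).1 h1
    have h8 := congrFun h2 0
    rw [mv_U] at h8
    have h8 : f x 0 + a * f x 1 + b * f x 2 + (a * b + a ^ 2 * θ a + θ b) * f x 3 = f x 0 := h8
    rw [h5, h6] at h8
    have h9 : a * f x 1 = 0 := by linear_combination h8
    have h10 : f x 1 = 0 := (mul_eq_zero.1 h9).resolve_left ha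
    apply hbij.1
    rw [hf]
    exact (fix_T H).2 ⟨h10, h5, h6⟩ a' b'
  -- a minimal submodule `X₁` and a maximal submodule `X₂`
  push Not at hirr
  obtain ⟨X, hX, hX0, hX1⟩ := hirr
  obtain ⟨X₁, hX1X, hmin⟩ := exists_minimal_le_of_wellFoundedLT
    (fun Y : AddSubgroup P => (∀ (g : LS F e), ∀ x ∈ Y, g • x ∈ Y) ∧ Y ≠ ⊥) X ⟨hX, hX0⟩
  obtain ⟨⟨hI1, hN1⟩, hM1⟩ := hmin
  have hT1 : X₁ ≠ ⊤ := by
    rintro rfl
    exact hX1 (top_le_iff.1 hX1X)
  obtain ⟨X₂, h12, hmax⟩ := exists_maximal_ge_of_wellFoundedGT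
    (fun Y : AddSubgroup P => (∀ (g : LS F e), ∀ x ∈ Y, g • x ∈ Y) ∧ Y ≠ ⊤) X₁ ⟨hI1, hT1⟩
  obtain ⟨⟨hI2, hN2⟩, hM2⟩ := hmax
  have hN2' : X₂ ≠ ⊥ := by
    rintro rfl
    exact hN1 (le_bot_iff.1 h12)
  -- the natural module `X₁`
  let _ := subAct X₁ hI1
  have hS1 := h.sub X₁ hI1
  have hirr1 : ∀ Y : AddSubgroup X₁, (∀ (g : LS F e), ∀ x ∈ Y, g • x ∈ Y) → Y = ⊥ ∨ Y = ⊤ := by
    intro Y hY
    by_cases hY0 : Y = ⊥
    · exact Or.inl hY0
    right
    have h1 : X₁ ≤ Y.map X₁.subtype := by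
      refine hM1 ⟨?_, ?_⟩ ?_
      · rintro g _ ⟨y, hy, rfl⟩
        exact ⟨g • y, hY g y hy, rfl⟩
      · intro h1
        exact hY0 ((AddSubgroup.map_eq_bot_iff_of_injective _ Subtype.val_injective).1 h1)
      · rintro _ ⟨y, _, rfl⟩
        exact y.2
    rw [AddSubgroup.eq_top_iff']
    intro y
    obtain ⟨y', hy', hyy⟩ := h1 y.2
    have : y' = y := Subtype.ext hyy
    rwa [← this]
  have hne1 : ∃ x : X₁, x ≠ 0 := by
    by_contra hcon
    push Not at hcon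
    apply hN1
    rw [eq_bot_iff]
    intro x hx
    exact congrArg Subtype.val (hcon ⟨x, hx⟩)
  obtain ⟨f₁, hbij₁, hadd₁, hf₁⟩ := (hS1.hy h3 hirr1 hne1).exists_nat
  let E₁ : X₁ ≃+ (Fin 4 → F) := AddEquiv.mk' (Equiv.ofBijective f₁ hbij₁) hadd₁
  have hE₁ : ∀ x, E₁ x = f₁ x := fun _ => rfl
  let ε : (Fin 4 → F) →+ P := X₁.subtype.comp E₁.symm.toAddMonoidHom
  have hε : ∀ v, ε v = (E₁.symm v : P) := fun _ => rfl
  have hεr : ∀ x ∈ X₁, ∃ v, x = ε v := by
    intro x hx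
    refine ⟨E₁ ⟨x, hx⟩, ?_⟩
    rw [hε, AddEquiv.symm_apply_apply]
  have hεm : ∀ v, ε v ∈ X₁ := fun v => (E₁.symm v).2
  -- the natural module `P / X₂`
  let _ := quotAct X₂ hI2
  have hS2 := h.quot X₂ hI2
  have hirr2 : ∀ Y : AddSubgroup (P ⧸ X₂), (∀ (g : LS F e), ∀ x ∈ Y, g • x ∈ Y) → Y = ⊥ ∨ Y = ⊤ := by
    intro Y hY
    by_cases hY0 : Y = ⊤
    · exact Or.inr hY0
    left
    have h1 : Y.comap (QuotientAddGroup.mk' X₂) ≤ X₂ := by
      refine hM2 ⟨?_, ?_⟩ ?_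
      · intro g x hx
        exact hY g _ hx
      · intro h1
        apply hY0
        rw [AddSubgroup.eq_top_iff']
        intro y
        obtain ⟨x, rfl⟩ := QuotientAddGroup.mk_surjective y
        have h2 : x ∈ Y.comap (QuotientAddGroup.mk' X₂) := by rw [h1]; exact AddSubgroup.mem_top _
        exact h2
      · intro x hx
        show ((x : P) : P ⧸ X₂) ∈ Y
        rw [(QuotientAddGroup.eq_zero_iff x).2 hx]
        exact Y.zero_mem
    rw [eq_bot_iff]
    intro y hy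
    obtain ⟨x, rfl⟩ := QuotientAddGroup.mk_surjective y
    exact (QuotientAddGroup.eq_zero_iff x).2 (h1 hy)
  have hne2 : ∃ x : P ⧸ X₂, x ≠ 0 := by
    by_contra hcon
    push Not at hcon
    apply hN2
    rw [AddSubgroup.eq_top_iff']
    intro x
    exact (QuotientAddGroup.eq_zero_iff x).1 (hcon x)
  obtain ⟨f₂, hbij₂, hadd₂, hf₂⟩ := (hS2.hy h3 hirr2 hne2).exists_nat
  let ψ : P →+ (Fin 4 → F) := (AddMonoidHom.mk' f₂ hadd₂).comp (QuotientAddGroup.mk' X₂)
  have hψ : ∀ x : P, ψ x = f₂ (x : P ⧸ X₂) := fun _ => rfl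
  have hf₂0 : f₂ 0 = 0 := (AddMonoidHom.mk' f₂ hadd₂).map_zero
  have hψ0 : ∀ x, ψ x = 0 → x ∈ X₂ := by
    intro x hx
    rw [hψ, ← hf₂0] at hx
    exact (QuotientAddGroup.eq_zero_iff x).1 (hbij₂.1 hx)
  have hψ1 : ∀ x ∈ X₂, ψ x = 0 := by
    intro x hx
    rw [hψ, (QuotientAddGroup.eq_zero_iff x).2 hx, hf₂0]
  -- orders
  have hlt2 : Nat.card X₂ < n := by
    rw [← hn]
    refine lt_of_le_of_ne (Nat.card_le_card_of_injective _ Subtype.val_injective) ?_
    intro h1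
    exact hN2 (AddSubgroup.eq_top_of_card_eq X₂ h1)
  have hlt1 : Nat.card (P ⧸ X₁) < n := by
    rw [← hn]
    have h1 := AddSubgroup.card_eq_card_quotient_mul_card_addSubgroup X₁
    have h2 : 1 < Nat.card X₁ := by
      obtain ⟨x, hx⟩ := hne1
      have : Nontrivial X₁ := ⟨⟨x, 0, hx⟩⟩
      exact Finite.one_lt_card
    rw [h1]
    have h4 : 0 < Nat.card (P ⧸ X₁) := Nat.card_pos
    calc Nat.card (P ⧸ X₁) = Nat.card (P ⧸ X₁) * 1 := (mul_one _).symm
      _ < Nat.card (P ⧸ X₁) * Nat.card X₁ := Nat.mul_lt_mul_of_pos_left h2 h4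
  have hcore : Core h ε ψ := by
    refine ⟨?_, ?_, ?_, ?_, ?_, ?_, ?_⟩
    · intro v w hvw
      exact E₁.symm.injective (Subtype.ext hvw)
    · intro g v
      have h1 : E₁.symm (mv g.1 v) = g • E₁.symm v := by
        rw [AddEquiv.symm_apply_eq, hE₁, hf₁, ← hE₁, AddEquiv.apply_symm_apply]
      rw [hε, h1]
      rfl
    · intro v
      obtain ⟨y, hy⟩ := hbij₂.2 v
      obtain ⟨x, rfl⟩ := QuotientAddGroup.mk_surjective y
      exact ⟨x, hy⟩
    · intro g x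
      exact hf₂ g (x : P ⧸ X₂)
    · intro v
      exact hψ1 _ (h12 (hεm v))
    · rintro a b ha x hx ⟨v, hv⟩ a' b'
      let _ := quotAct X₁ hI1
      have h1 := ih _ hlt1 (P ⧸ X₁) _ (h.quot X₁ hI1) rfl a b ha (x : P ⧸ X₁) ⟨x, hx, rfl⟩ (by
        show ((H.u a b • x : P) : P ⧸ X₁) = (x : P ⧸ X₁)
        rw [eq_comm, QuotientAddGroup.eq, neg_add_eq_sub, hv]
        exact hεm v) a' b'
      have h2 : ((H.u a' b' • x : P) : P ⧸ X₁) = (x : P ⧸ X₁) := h1
      rw [eq_comm, QuotientAddGroup.eq, neg_add_eq_sub] at h2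
      exact hεr _ h2
    · intro a b ha x hx hx0 hfix
      let _ := subAct X₂ hI2
      have h1 := ih _ hlt2 X₂ _ (h.sub X₂ hI2) rfl a b ha ⟨x, hψ0 x hx0⟩ hx (Subtype.ext hfix)
      intro a' b'
      exact congrArg Subtype.val (h1 a' b')
  intro a b ha x hx hfix
  exact hcore.fx_of h3 ha b hx hfix

variable {P : Type u} [AddCommGroup P] [DistribMulAction (LS F e) P] {B : AddSubgroup P}

namespace SzM

variable (h : SzM H P B)
include h

/-- **CLAIM A**: `C_B(t) = C_B(T)` for `t ∈ T - Z(T)` -/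
theorem fx_of [Finite F] [Finite P] (h3 : 3 ≤ Nat.card F) {a b : F} (ha : a ≠ 0) {y : P} (hy : y ∈ B)
    (hfix : H.u a b • y = y) : Fx H y := fx_aux h3 _ P B h rfl a b ha y hy hfix

/-- `[B, T] ≤ C_B(T)` -/
theorem comm_fx [Finite F] [Finite P] (h3 : 3 ≤ Nat.card F) (a b : F) {y : P} (hy : y ∈ B) :
    H.u a b • y - y ∈ B ∧ Fx H (H.u a b • y - y) := by
  rw [h.u_eq hy]
  refine ⟨h.mem_N hy a, ?_⟩
  by_cases ha : a = 0
  · rw [ha, H.u_zero, one_smul, sub_self]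
    exact Fx.zero
  · exact h.fx_of h3 (b := 0) ha (h.mem_N hy a) (N_eq_zero.1 (h.N_N hy a))

/-- `C_B(T) ≤ [B, t]` -/
theorem exists_comm [Finite P] {a : F} (ha : a ≠ 0) (b : F) {y : P} (hy : y ∈ B) (hf : Fx H y) :
    ∃ n ∈ B, H.u a b • n - n = y := by
  have hz : a * θ a ≠ 0 := mul_ne_zero ha ((map_ne_zero θ).2 ha)
  obtain ⟨n, hn⟩ := h.com hz hy
  -- `(t - 1)² = z - 1`
  have h1 : H.u a b • (H.u a b • n - n) - (H.u a b • n - n) = y := by
    rw [smul_sub, ← mul_smul, H.u_mul]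
    have e1 : H.u (a + a) (b + b + a * θ a) = H.u 0 (a * θ a) := by
      rw [H.add_self, H.add_self, zero_add]
    rw [e1, ← hn]
    have h2 := h.two (H.u a b • n - n)
    calc H.u 0 (a * θ a) • n - H.u a b • n - (H.u a b • n - n) =
        H.u 0 (a * θ a) • n - n - ((H.u a b • n - n) + (H.u a b • n - n)) := by abel
      _ = _ := by rw [h2, sub_zero]
  refine ⟨H.u a b • n - n, ?_, h1⟩
  rw [← h.fix _ hz, ← sub_eq_zero]
  have h4 : H.u a b * H.u a b = H.u 0 (a * θ a) := by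
    rw [H.u_mul, H.add_self, H.add_self, zero_add]
  have h5 : H.u a b • y = y := hf a b
  have h6 : H.u a b • H.u a b • (H.u a b • n - n) = H.u a b • n - n := by
    have h7 : H.u a b • (H.u a b • n - n) = y + (H.u a b • n - n) := by
      rw [← h1]
      abel
    rw [h7, smul_add, h5, h7, ← add_assoc, h.two, zero_add]
  rw [← h4, mul_smul, h6, sub_self]

/-- **`|C_B(T)|² = |B|`** -/
theorem card_sq [Finite F] [Finite P] (h3 : 3 ≤ Nat.card F) : Nat.card (FB H B) ^ 2 = Nat.card B := by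
  let f : B →+ B :=
    { toFun := fun y => ⟨H.u 1 0 • y.1 - y.1, h.mem_N y.2 1⟩
      map_zero' := Subtype.ext (by
        show H.u 1 0 • (0 : P) - 0 = 0
        rw [smul_zero, sub_zero])
      map_add' := fun x y => Subtype.ext (by
        show H.u 1 0 • (x.1 + y.1) - (x.1 + y.1) = H.u 1 0 • x.1 - x.1 + (H.u 1 0 • y.1 - y.1)
        rw [smul_add]
        abel) }
  have hf : ∀ y : B, (f y : P) = H.u 1 0 • y.1 - y.1 := fun _ => rfl
  have hker : ∀ y : B, y ∈ f.ker ↔ (y : P) ∈ FB H B := by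
    intro y
    rw [AddMonoidHom.mem_ker, mem_FB]
    constructor
    · intro h1
      exact ⟨y.2, h.fx_of h3 one_ne_zero y.2 (sub_eq_zero.1 (congrArg Subtype.val h1))⟩
    · intro h1
      exact Subtype.ext (sub_eq_zero.2 (h1.2 1 0))
  have hran : ∀ y : B, y ∈ f.range ↔ (y : P) ∈ FB H B := by
    intro y
    rw [mem_FB]
    constructor
    · rintro ⟨x, rfl⟩
      exact h.comm_fx h3 1 0 x.2
    · rintro ⟨h1, h2⟩
      obtain ⟨n, hn, hny⟩ := h.exists_comm one_ne_zero 0 h1 h2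
      exact ⟨⟨n, hn⟩, Subtype.ext hny⟩
  have hcard : ∀ Y : AddSubgroup B, (∀ y : B, y ∈ Y ↔ (y : P) ∈ FB H B) → Nat.card Y = Nat.card (FB H B) := by
    intro Y hY
    refine Nat.card_congr
      { toFun := fun y => ⟨y.1.1, (hY y.1).1 y.2⟩
        invFun := fun y => ⟨⟨y.1, y.2.1⟩, (hY _).2 y.2⟩
        left_inv := fun y => rfl
        right_inv := fun y => rfl }
  have h1 : Nat.card f.ker * Nat.card f.range = Nat.card B := by
    rw [← AddSubgroup.index_ker, AddSubgroup.card_mul_index]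
  rw [hcard _ hker, hcard _ hran] at h1
  rw [_root_.sq, h1]

end SzM

end induction

end Cfsg.Agent.Omega.NO1.Field.SzA
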