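import Cfsg.Agent.Omega.TwoFFour.SzNatC

/-!
# CLAIM A of THEOREM SZ: fixed points of the Sylow 2-subgroup `T = {u a b}` of `Sz(q)`

`P` is a finite elementary abelian 2-group with an action of `Sz(q)`, `q ≥ 3`, such that all involutions `u 0 b` of `T`
have the same centraliser `B` in `P`, and `B ∩ B^g = 0` for some `g`.  Then `C_B(t) = C_B(T) = [B, t] = [B, T]` for
every `t ∈ T - Z(T)`, and this group has order `√|B|`.

This file: the hypotheses `SzM`, and the induction step `Core.fx_of`.  The results are in `SzClaimA.lean`.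
-/

set_option autoImplicit false
set_option linter.unusedSectionVars false

namespace Cfsg.Agent.Omega.NO1.Field.SzA

open Matrix
open Cfsg.Agent.LieRecognition.SzMatrix Cfsg.Agent.ThreePrime.SzRel Cfsg.Agent.Omega.TwoFFour

variable {F : Type*} [Field F] {θ : F →+* F} {e : ℕ} {H : Good F θ e}

section field

theorem fix_th (H : Good F θ e) {x : F} (h : θ x = x) : x = 0 ∨ x = 1 := (ofGood H).fix_theta h

theorem ne_zero_of_add_one (H : Good F θ e) {c : F} (hc1 : c ≠ 1) : c + 1 ≠ 0 := by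
  intro h
  apply hc1
  linear_combination h - H.add_self (1 : F)

/-- `n ↦ n θ(n)` is onto -/
theorem exists_norm (H : Good F θ e) (x : F) : ∃ n : F, n * θ n = x := by
  by_cases hx : x = 0
  · exact ⟨0, by rw [hx, zero_mul]⟩
  · refine ⟨θ x * x⁻¹, ?_⟩
    have hθ : θ x ≠ 0 := (map_ne_zero θ).2 hx
    rw [map_mul, H.sq, map_inv₀]
    field_simp

/-- every element of `F` is `l θ(m) + m θ(l)` -/
theorem exists_form2 [Finite F] (H : Good F θ e) (h3 : 3 ≤ Nat.card F) (c : F) : ∃ l m : F, l * θ m + m * θ l = c := by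
  obtain ⟨m, hm0, hm1⟩ := exists_ne_ne h3
  have hs : θ m + m ≠ 0 := by
    intro h
    have h1 : θ m = m := by linear_combination h - H.add_self m
    rcases fix_th H h1 with h2 | h2
    · exact hm0 h2
    · exact hm1 h2
  obtain ⟨n, hn⟩ := exists_norm H (c * (θ m + m)⁻¹)
  refine ⟨n, n * m, ?_⟩
  rw [map_mul]
  have h1 : n * θ n * (θ m + m) = c := by rw [hn, inv_mul_cancel_right₀ hs]
  linear_combination h1

/-- `k ↦ θ(k) / k` is not additive -/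
theorem lam_ne (H : Good F θ e) {k : F} (hk0 : k ≠ 0) (hk1 : k ≠ 1) :
    θ k * k⁻¹ + 1 + θ (k + 1) * (k + 1)⁻¹ ≠ 0 := by
  intro h
  have hk2 := ne_zero_of_add_one H hk1
  have h1 : θ k = k ^ 2 := by
    have h2 : (θ k * k⁻¹ + 1 + θ (k + 1) * (k + 1)⁻¹) * (k * (k + 1)) = 0 := by rw [h, zero_mul]
    rw [map_add, map_one] at h2
    field_simp at h2
    linear_combination h2 - (θ k * k + k ^ 2 + k) * H.two
  have h2 : θ (θ k) = θ k := by rw [H.sq, h1]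
  rcases fix_th H h2 with h3 | h3
  · exact hk0 ((map_eq_zero θ).1 h3)
  · apply hk1
    apply θ.injective
    rw [h3, map_one]

end field

/-- the hypotheses of CLAIM A -/
structure SzM (H : Good F θ e) (P : Type*) [AddCommGroup P] [DistribMulAction (LS F e) P] (B : AddSubgroup P) :
    Prop where
  two : ∀ m : P, m + m = 0
  fix : ∀ b : F, b ≠ 0 → ∀ m : P, H.u 0 b • m = m ↔ m ∈ B
  disj : ∃ g : LS F e, ∀ m ∈ B, g • m ∈ B → m = 0

section module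

variable {P : Type*} [AddCommGroup P] [DistribMulAction (LS F e) P] {B : AddSubgroup P}

/-- the commutator with `u a 0` -/
def N (H : Good F θ e) (a : F) (x : P) : P := H.u a 0 • x - x

theorem N_add_right (a : F) (x y : P) : N H a (x + y) = N H a x + N H a y := by
  unfold N
  rw [smul_add]
  abel

theorem N_sub_right (a : F) (x y : P) : N H a (x - y) = N H a x - N H a y := by
  unfold N
  rw [smul_sub]
  abel

theorem N_zero_right (a : F) : N H a (0 : P) = 0 := by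
  unfold N
  rw [smul_zero, sub_zero]

theorem N_neg_right (a : F) (x : P) : N H a (-x) = -N H a x := by
  unfold N
  rw [smul_neg]
  abel

theorem N_zero_left (x : P) : N H 0 x = 0 := by
  unfold N
  rw [H.u_zero, one_smul, sub_self]

theorem N_eq_zero {a : F} {x : P} : N H a x = 0 ↔ H.u a 0 • x = x := sub_eq_zero

theorem N_d (a : F) (k : Fˣ) (x : P) : N H (a * k ^ 2 * (θ k)⁻¹) (H.d k • x) = H.d k • N H a x := by
  unfold N
  rw [smul_sub, ← mul_smul (H.d k) (H.u a 0), H.d_mul_u, zero_mul, mul_smul]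

namespace SzM

variable (h : SzM H P B)
include h

theorem fix1 {b : F} {m : P} (hm : m ∈ B) : H.u 0 b • m = m := by
  by_cases hb : b = 0
  · rw [hb, H.u_zero, one_smul]
  · exact (h.fix b hb m).2 hm

theorem mem_u {m : P} (hm : m ∈ B) (a b : F) : H.u a b • m ∈ B := by
  rw [← h.fix 1 one_ne_zero, ← mul_smul]
  have h1 : H.u 0 1 * H.u a b = H.u a b * H.u 0 1 := by
    rw [H.u_mul, H.u_mul]
    congr 1
    · ring
    · rw [map_zero]; ring
  rw [h1, mul_smul, h.fix1 hm]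

theorem mem_d {m : P} (hm : m ∈ B) (k : Fˣ) : H.d k • m ∈ B := by
  rw [← h.fix 1 one_ne_zero, ← mul_smul]
  have h1 : H.u 0 1 * H.d k = H.d k * H.u 0 (θ k)⁻¹ := by
    rw [H.d_mul_u]
    congr 2
    · ring
    · rw [inv_mul_cancel₀ (theta_ne_zero θ k)]
  rw [h1, mul_smul, h.fix1 hm]

theorem disj_w {m : P} (hm : m ∈ B) (hw : H.w • m ∈ B) : m = 0 := by
  obtain ⟨g, hg⟩ := h.disj
  rcases (ofGood H).bruhat g with ⟨a, b, k, h1⟩ | ⟨a, b, c, d, k, h1⟩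
  · have h1 : g = H.u a b * H.d k := h1
    refine hg m hm ?_
    rw [h1, mul_smul]
    exact h.mem_u (h.mem_d hm k) a b
  · have h1 : g = H.u a b * H.w * (H.u c d * H.d k) := h1
    have h2 : (H.u c d * H.d k)⁻¹ • m ∈ B := by
      rw [_root_.mul_inv_rev, H.u_inv, H.d_inv, mul_smul]
      exact h.mem_d (h.mem_u hm _ _) _
    have h4 := hg _ h2 (by
      rw [h1, ← mul_smul, mul_assoc, mul_inv_cancel, mul_one, mul_smul]
      exact h.mem_u hw a b)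
    rwa [smul_eq_zero_iff_eq] at h4

theorem u_eq {m : P} (hm : m ∈ B) (a b : F) : H.u a b • m = H.u a 0 • m := by
  have h1 : H.u a b = H.u a 0 * H.u 0 b := by
    rw [H.u_mul]
    congr 1
    · ring
    · rw [map_zero]; ring
  rw [h1, mul_smul, h.fix1 hm]

theorem fx_iff {m : P} (hm : m ∈ B) : Fx H m ↔ ∀ a, N H a m = 0 := by
  constructor
  · intro hf a
    rw [N_eq_zero]
    exact hf a 0
  · intro hf a b
    rw [h.u_eq hm]
    exact N_eq_zero.1 (hf a)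

theorem mem_N {m : P} (hm : m ∈ B) (a : F) : N H a m ∈ B := B.sub_mem (h.mem_u hm a 0) hm

theorem N_add {m : P} (hm : m ∈ B) (a a' : F) : N H (a + a') m = N H a m + N H a' m + N H a (N H a' m) := by
  have h1 : H.u a 0 • H.u a' 0 • m = H.u (a + a') 0 • m := by
    rw [← mul_smul, H.u_mul, h.u_eq hm]
  unfold N
  rw [smul_sub, h1]
  abel

theorem N_N {m : P} (hm : m ∈ B) (a : F) : N H a (N H a m) = 0 := by
  have h1 := h.N_add hm a a
  rw [H.add_self, N_zero_left, h.two, zero_add] at h1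
  exact h1.symm

end SzM

/-- the induction step -/
structure Core (h : SzM H P B) (ε : (Fin 4 → F) →+ P) (ψ : P →+ (Fin 4 → F)) : Prop where
  ε_inj : Function.Injective ε
  ε_smul : ∀ (g : LS F e) v, ε (mv g.1 v) = g • ε v
  ψ_surj : Function.Surjective ψ
  ψ_smul : ∀ (g : LS F e) x, ψ (g • x) = mv g.1 (ψ x)
  ψε : ∀ v, ψ (ε v) = 0
  ind1 : ∀ (a b : F), a ≠ 0 → ∀ x ∈ B, (∃ v, H.u a b • x - x = ε v) → ∀ a' b', ∃ v, H.u a' b' • x - x = ε v
  ind2 : ∀ (a b : F), a ≠ 0 → ∀ x ∈ B, ψ x = 0 → H.u a b • x = x → Fx H x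

namespace Core

variable {h : SzM H P B} {ε : (Fin 4 → F) →+ P} {ψ : P →+ (Fin 4 → F)} (hc : Core h ε ψ)
include hc

theorem u0 (a c : F) : H.u a 0 • ε (Pi.single 0 c) = ε (Pi.single 0 c) := by
  rw [← hc.ε_smul]
  congr 1
  show mv (H.U a 0) (Pi.single 0 c) = Pi.single 0 c
  rw [mv_U]
  apply ext4 <;> simp

theorem uz (a b c : F) : H.u a b • ε (Pi.single 0 c) = ε (Pi.single 0 c) := by
  rw [← hc.ε_smul]
  congr 1
  show mv (H.U a b) (Pi.single 0 c) = Pi.single 0 c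
  rw [mv_U]
  apply ext4 <;> simp

theorem mem0 (c : F) : ε (Pi.single 0 c) ∈ B := (h.fix 1 one_ne_zero _).1 (hc.uz 0 1 c)

theorem N0 (a c : F) : N H a (ε (Pi.single 0 c)) = 0 := N_eq_zero.2 (hc.u0 a c)

theorem mem1 (c : F) : ε (Pi.single 1 c) ∈ B := by
  rw [← h.fix 1 one_ne_zero, ← hc.ε_smul]
  congr 1
  show mv (H.U 0 1) (Pi.single 1 c) = Pi.single 1 c
  rw [mv_U]
  apply ext4 <;> simp

theorem N1 (a c : F) : N H a (ε (Pi.single 1 c)) = ε (Pi.single 0 (a * c)) := by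
  unfold N
  rw [← hc.ε_smul, ← map_sub]
  congr 1
  show mv (H.U a 0) (Pi.single 1 c) - Pi.single 1 c = Pi.single 0 (a * c)
  rw [mv_U]
  apply ext4 <;> simp

theorem d0 (k : Fˣ) (c : F) : H.d k • ε (Pi.single 0 c) = ε (Pi.single 0 (k * c)) := by
  rw [← hc.ε_smul]
  congr 1
  show mv (H.D k) (Pi.single 0 c) = Pi.single 0 (k * c)
  rw [mv_D]
  apply ext4 <;> simp

theorem d1 (k : Fˣ) (c : F) : H.d k • ε (Pi.single 1 c) = ε (Pi.single 1 (θ k * (k : F)⁻¹ * c)) := by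
  rw [← hc.ε_smul]
  congr 1
  show mv (H.D k) (Pi.single 1 c) = Pi.single 1 (θ k * (k : F)⁻¹ * c)
  rw [mv_D]
  apply ext4 <;> simp

theorem inj0 {c c' : F} (hcc : ε (Pi.single 0 c) = ε (Pi.single 0 c')) : c = c' := by
  have h1 := congrFun (hc.ε_inj hcc) 0
  simpa using h1

/-- the fixed points of `T` modulo `ε` -/
theorem exists_e0 {a : F} (ha : a ≠ 0) {x : P} (hx : x ∈ B) {v : Fin 4 → F} (hv : N H a x = ε v) :
    ∃ c, N H a x = ε (Pi.single 0 c) := by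
  have h1 : H.u 0 1 • ε v = ε v := by
    rw [← hv]
    exact h.fix1 (h.mem_N hx a)
  have h2 : H.u a 0 • ε v = ε v := by
    rw [← hv]
    exact N_eq_zero.1 (h.N_N hx a)
  rw [← hc.ε_smul] at h1 h2
  have h4 := hc.ε_inj h1
  obtain ⟨h5, h6⟩ := (fix_Z H one_ne_zero).1 h4
  have h7 : mv (H.U a 0) v = v := hc.ε_inj h2
  have h8 := congrFun h7 0
  rw [mv_U] at h8
  have h8 : v 0 + a * v 1 + 0 * v 2 + (a * 0 + a ^ 2 * θ a + θ 0) * v 3 = v 0 := h8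
  rw [h5, h6] at h8
  have h9 : a * v 1 = 0 := by linear_combination h8
  have h10 : v 1 = 0 := (mul_eq_zero.1 h9).resolve_left ha
  refine ⟨v 0, ?_⟩
  rw [hv]
  congr 1
  apply ext4 <;> simp [h5, h6, h10]

end Core

/-- the elements of `B` which are `T`-fixed modulo `ε` -/
def KP (H : Good F θ e) (B : AddSubgroup P) (ε : (Fin 4 → F) →+ P) : AddSubgroup P where
  carrier := {x | x ∈ B ∧ ∀ a, ∃ c, N H a x = ε (Pi.single 0 c)}
  zero_mem' := ⟨B.zero_mem, fun a => ⟨0, by rw [N_zero_right, Pi.single_zero, map_zero]⟩⟩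
  add_mem' := by
    rintro x y ⟨hx, hx'⟩ ⟨hy, hy'⟩
    refine ⟨B.add_mem hx hy, fun a => ?_⟩
    obtain ⟨c, hc⟩ := hx' a
    obtain ⟨c', hc'⟩ := hy' a
    exact ⟨c + c', by rw [N_add_right, hc, hc', Pi.single_add, map_add]⟩
  neg_mem' := by
    rintro x ⟨hx, hx'⟩
    refine ⟨B.neg_mem hx, fun a => ?_⟩
    obtain ⟨c, hc⟩ := hx' a
    exact ⟨-c, by rw [N_neg_right, hc, Pi.single_neg, map_neg]⟩

theorem mem_KP {ε : (Fin 4 → F) →+ P} {x : P} :
    x ∈ KP H B ε ↔ x ∈ B ∧ ∀ a, ∃ c, N H a x = ε (Pi.single 0 c) := Iff.rfl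

/-- the elements of `B` which are `T`-fixed -/
def FB (H : Good F θ e) (B : AddSubgroup P) : AddSubgroup P where
  carrier := {x | x ∈ B ∧ Fx H x}
  zero_mem' := ⟨B.zero_mem, Fx.zero⟩
  add_mem' := fun hx hy => ⟨B.add_mem hx.1 hy.1, hx.2.add hy.2⟩
  neg_mem' := fun hx => ⟨B.neg_mem hx.1, hx.2.neg⟩

theorem mem_FB {x : P} : x ∈ FB H B ↔ x ∈ B ∧ Fx H x := Iff.rfl

theorem SzM.FB_d (h : SzM H P B) {x : P} (hx : x ∈ FB H B) (k : Fˣ) : H.d k • x ∈ FB H B :=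
  ⟨h.mem_d hx.1 k, hx.2.d k⟩

theorem SzM.N_FB (h : SzM H P B) {x : P} (hx : x ∈ FB H B) (a : F) : N H a x = 0 := (h.fx_iff hx.1).1 hx.2 a

namespace Core

variable {h : SzM H P B} {ε : (Fin 4 → F) →+ P} {ψ : P →+ (Fin 4 → F)} (hc : Core h ε ψ)
include hc

theorem FB0 (c : F) : ε (Pi.single 0 c) ∈ FB H B := ⟨hc.mem0 c, fun a b => hc.uz a b c⟩

theorem FB_le {x : P} (hx : x ∈ FB H B) : x ∈ KP H B ε :=
  mem_KP.2 ⟨hx.1, fun a => ⟨0, by rw [h.N_FB hx, Pi.single_zero, map_zero]⟩⟩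

theorem KP1 (c : F) : ε (Pi.single 1 c) ∈ KP H B ε := mem_KP.2 ⟨hc.mem1 c, fun a => ⟨a * c, hc.N1 a c⟩⟩

/-- `ε(e₁ c)` is `T`-fixed only for `c = 0` -/
theorem FB1 {c : F} (hF : ε (Pi.single 1 c) ∈ FB H B) : c = 0 := by
  have h1 := h.N_FB hF 1
  rw [hc.N1, one_mul, ← map_zero ε, ← Pi.single_zero (0 : Fin 4)] at h1
  exact hc.inj0 h1

theorem KP_d {x : P} (hx : x ∈ KP H B ε) (k : Fˣ) : H.d k • x ∈ KP H B ε := by
  refine mem_KP.2 ⟨h.mem_d hx.1 k, fun a => ?_⟩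
  have hk := k.ne_zero
  have hθ := theta_ne_zero θ k
  obtain ⟨c, hc'⟩ := hx.2 (a * ((k : F) ^ 2)⁻¹ * θ k)
  have h1 := N_d (H := H) (a * ((k : F) ^ 2)⁻¹ * θ k) k x
  have e1 : a * ((k : F) ^ 2)⁻¹ * θ k * k ^ 2 * (θ k)⁻¹ = a := by field_simp
  rw [e1, hc', hc.d0] at h1
  exact ⟨_, h1⟩

theorem of_ind1 {a : F} (ha : a ≠ 0) {x : P} (hx : x ∈ B) (hN : N H a x = 0) : x ∈ KP H B ε := by
  refine mem_KP.2 ⟨hx, fun a' => ?_⟩
  by_cases ha' : a' = 0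
  · exact ⟨0, by rw [ha', N_zero_left, Pi.single_zero, map_zero]⟩
  · obtain ⟨v, hv⟩ := hc.ind1 a 0 ha x hx ⟨0, by rw [map_zero]; exact hN⟩ a' 0
    exact hc.exists_e0 ha' hx hv

theorem N_KP {x : P} (hx : x ∈ KP H B ε) (a : F) : N H a x ∈ FB H B := by
  obtain ⟨c, hc'⟩ := hx.2 a
  rw [hc']
  exact hc.FB0 c

/-- additivity on `KP` -/
theorem N_add' {x : P} (hx : x ∈ KP H B ε) (a a' : F) : N H (a + a') x = N H a x + N H a' x := by
  rw [h.N_add hx.1, h.N_FB (hc.N_KP hx a'), add_zero]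

/-- `ψ` of an element of `KP` -/
theorem ψ_KP {x : P} (hx : x ∈ KP H B ε) : ψ x 1 = 0 ∧ ψ x 2 = 0 ∧ ψ x 3 = 0 := by
  rw [← fix_T H]
  intro a b
  obtain ⟨c, hc'⟩ := hx.2 a
  have h1 : H.u a b • x = x + ε (Pi.single 0 c) := by
    rw [h.u_eq hx.1, ← hc']
    unfold N
    abel
  have h2 := hc.ψ_smul (H.u a b) x
  rw [h1, map_add, hc.ψε, add_zero] at h2
  exact h2.symm

theorem ψ_eq_zero {x : P} (hx : x ∈ KP H B ε) (h0 : ψ x 0 = 0) : ψ x = 0 := by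
  obtain ⟨h1, h2, h3⟩ := hc.ψ_KP hx
  apply ext4
  · exact h0
  · exact h1
  · exact h2
  · exact h3

/-- (S) -/
theorem exists_sub {x : P} (hx : x ∈ KP H B ε) (h0 : ψ x 0 = 0) : ∃ c, x - ε (Pi.single 1 c) ∈ FB H B := by
  obtain ⟨c, hc'⟩ := hx.2 1
  refine ⟨c, B.sub_mem hx.1 (hc.mem1 c), ?_⟩
  refine hc.ind2 1 0 one_ne_zero _ (B.sub_mem hx.1 (hc.mem1 c)) ?_ ?_
  · rw [map_sub, hc.ψ_eq_zero hx h0, hc.ψε, sub_zero]
  · rw [← N_eq_zero, N_sub_right, hc', hc.N1, one_mul, sub_self]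

end Core

/-- `d κ + 1 + d κ'` -/
def A0 (H : Good F θ e) (κ κ' : Fˣ) (x : P) : P := H.d κ • x + x + H.d κ' • x

theorem A0_add (κ κ' : Fˣ) (x y : P) : A0 H κ κ' (x + y) = A0 H κ κ' x + A0 H κ κ' y := by
  unfold A0
  rw [smul_add, smul_add]
  abel

theorem A0_sub (κ κ' : Fˣ) (x y : P) : A0 H κ κ' (x - y) = A0 H κ κ' x - A0 H κ κ' y := by
  unfold A0
  rw [smul_sub, smul_sub]
  abel

theorem A0_zero (κ κ' : Fˣ) : A0 H κ κ' (0 : P) = 0 := by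
  unfold A0
  rw [smul_zero, smul_zero, add_zero, add_zero]

theorem A0_neg (κ κ' : Fˣ) (x : P) : A0 H κ κ' (-x) = -A0 H κ κ' x := by
  unfold A0
  rw [smul_neg, smul_neg]
  abel

theorem A0_d (κ κ' k : Fˣ) (x : P) : A0 H κ κ' (H.d k • x) = H.d k • A0 H κ κ' x := by
  unfold A0
  rw [smul_add, smul_add, ← mul_smul, ← mul_smul, ← mul_smul, ← mul_smul, H.d_mul, H.d_mul, H.d_mul, H.d_mul,
    mul_comm κ k, mul_comm κ' k]

/-- the complement -/
def R0 (H : Good F θ e) (B : AddSubgroup P) (ε : (Fin 4 → F) →+ P) (κ κ' : Fˣ) : AddSubgroup P where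
  carrier := {x | x ∈ KP H B ε ∧ A0 H κ κ' x ∈ FB H B}
  zero_mem' := ⟨(KP H B ε).zero_mem, by rw [A0_zero]; exact (FB H B).zero_mem⟩
  add_mem' := fun hx hy => ⟨(KP H B ε).add_mem hx.1 hy.1, by rw [A0_add]; exact (FB H B).add_mem hx.2 hy.2⟩
  neg_mem' := fun hx => ⟨(KP H B ε).neg_mem hx.1, by rw [A0_neg]; exact (FB H B).neg_mem hx.2⟩

theorem mem_R0 {ε : (Fin 4 → F) →+ P} {κ κ' : Fˣ} {x : P} :
    x ∈ R0 H B ε κ κ' ↔ x ∈ KP H B ε ∧ A0 H κ κ' x ∈ FB H B := Iff.rfl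

theorem SzM.A0_FB (h : SzM H P B) {x : P} (hx : x ∈ FB H B) (κ κ' : Fˣ) : A0 H κ κ' x ∈ FB H B :=
  (FB H B).add_mem ((FB H B).add_mem (h.FB_d hx κ) hx) (h.FB_d hx κ')

namespace Core

variable {h : SzM H P B} {ε : (Fin 4 → F) →+ P} {ψ : P →+ (Fin 4 → F)} (hc : Core h ε ψ) {κ κ' : Fˣ}
include hc

theorem A0_KP {x : P} (hx : x ∈ KP H B ε) : A0 H κ κ' x ∈ KP H B ε :=
  (KP H B ε).add_mem ((KP H B ε).add_mem (hc.KP_d hx κ) hx) (hc.KP_d hx κ')

theorem ψ_d (k : Fˣ) (x : P) : ψ (H.d k • x) 0 = k * ψ x 0 := by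
  rw [hc.ψ_smul]
  show mv (H.D k) (ψ x) 0 = k * ψ x 0
  rw [mv_D]
  rfl

theorem ψ_A0 (hκ : (κ' : F) = κ + 1) (x : P) : ψ (A0 H κ κ' x) 0 = 0 := by
  unfold A0
  rw [map_add, map_add]
  show ψ (H.d κ • x) 0 + ψ x 0 + ψ (H.d κ' • x) 0 = 0
  rw [hc.ψ_d, hc.ψ_d, hκ]
  linear_combination (κ * ψ x 0 + ψ x 0) * H.two

theorem A0_1 (c : F) : A0 H κ κ' (ε (Pi.single 1 c)) =
    ε (Pi.single 1 ((θ κ * (κ : F)⁻¹ + 1 + θ κ' * (κ' : F)⁻¹) * c)) := by
  unfold A0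
  rw [hc.d1, hc.d1, add_mul, add_mul, one_mul, Pi.single_add, Pi.single_add, map_add, map_add]

theorem FB_R0 {x : P} (hx : x ∈ FB H B) : x ∈ R0 H B ε κ κ' := ⟨hc.FB_le hx, h.A0_FB hx κ κ'⟩

theorem R0_d {x : P} (hx : x ∈ R0 H B ε κ κ') (k : Fˣ) : H.d k • x ∈ R0 H B ε κ κ' :=
  ⟨hc.KP_d hx.1 k, by rw [A0_d]; exact h.FB_d hx.2 k⟩

/-- `KP = R0 + ε(F e₁)` -/
theorem exists_R0 (hκ : (κ' : F) = κ + 1) (hl : θ κ * (κ : F)⁻¹ + 1 + θ κ' * (κ' : F)⁻¹ ≠ 0) {x : P}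
    (hx : x ∈ KP H B ε) : ∃ c, x - ε (Pi.single 1 c) ∈ R0 H B ε κ κ' := by
  obtain ⟨c, hc'⟩ := hc.exists_sub (hc.A0_KP hx) (hc.ψ_A0 hκ x)
  refine ⟨(θ κ * (κ : F)⁻¹ + 1 + θ κ' * (κ' : F)⁻¹)⁻¹ * c, (KP H B ε).sub_mem hx (hc.KP1 _), ?_⟩
  rw [A0_sub, hc.A0_1, mul_inv_cancel_left₀ hl]
  exact hc'

/-- `R0 ∩ ker ψ` is `T`-fixed -/
theorem R0_ψ (hl : θ κ * (κ : F)⁻¹ + 1 + θ κ' * (κ' : F)⁻¹ ≠ 0) {x : P}
    (hx : x ∈ R0 H B ε κ κ') (h0 : ψ x 0 = 0) : x ∈ FB H B := by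
  obtain ⟨c, hc'⟩ := hc.exists_sub hx.1 h0
  have h1 := (FB H B).sub_mem hx.2 (h.A0_FB hc' κ κ')
  rw [← A0_sub, sub_sub_cancel, hc.A0_1] at h1
  have h2 := hc.FB1 h1
  have h4 : c = 0 := (mul_eq_zero.1 h2).resolve_left hl
  rwa [h4, Pi.single_zero, map_zero, sub_zero] at hc'

theorem R0_1 (hl : θ κ * (κ : F)⁻¹ + 1 + θ κ' * (κ' : F)⁻¹ ≠ 0) {c : F}
    (hx : ε (Pi.single 1 c) ∈ R0 H B ε κ κ') : c = 0 :=
  hc.FB1 (hc.R0_ψ hl hx (by rw [hc.ψε]; rfl))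

/-- a vector of `B` over `e₁` -/
theorem exists_m : ∃ m ∈ B, ψ m = Pi.single 1 1 := by
  obtain ⟨x, hx⟩ := hc.ψ_surj ![0, 0, 1, 1]
  refine ⟨H.u 0 1 • x - x, ?_, ?_⟩
  · rw [← h.fix 1 one_ne_zero, smul_sub, ← mul_smul, H.u_mul]
    have h1 := H.add_self (1 : F)
    have e1 : H.u (0 + 0) (1 + 1 + 0 * θ 0) = 1 := by
      rw [add_zero, zero_mul, add_zero, h1, H.u_zero]
    rw [e1, one_smul]
    have h2 := h.two (H.u 0 1 • x - x)
    rw [eq_comm, ← sub_eq_zero]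
    rw [← h2]
    abel
  · rw [map_sub, hc.ψ_smul, hx]
    show mv (H.U 0 1) ![0, 0, 1, 1] - ![0, 0, 1, 1] = Pi.single 1 1
    rw [mv_U]
    have h1 := H.add_self (1 : F)
    apply ext4 <;> simp [h1]

/-- **the induction step** -/
theorem R0_fx [Finite F] (h3 : 3 ≤ Nat.card F) (hκ : (κ' : F) = κ + 1)
    (hl : θ κ * (κ : F)⁻¹ + 1 + θ κ' * (κ' : F)⁻¹ ≠ 0) {r : P} (hr : r ∈ R0 H B ε κ κ') : r ∈ FB H B := by
  obtain ⟨m, hm, hψm⟩ := hc.exists_m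
  -- `x(a) = [m, t_a]`
  have hx : ∀ a, N H a m ∈ KP H B ε := by
    intro a
    by_cases ha : a = 0
    · rw [ha, N_zero_left]; exact (KP H B ε).zero_mem
    · exact hc.of_ind1 ha (h.mem_N hm a) (h.N_N hm a)
  have hψx : ∀ a, ψ (N H a m) 0 = a := by
    intro a
    unfold N
    rw [map_sub, hc.ψ_smul, hψm]
    show mv (H.U a 0) (Pi.single 1 1) 0 - (Pi.single 1 1 : Fin 4 → F) 0 = a
    rw [mv_U]
    simp
  choose G hG using fun a => hc.exists_R0 hκ hl (hx a)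
  have huniq : ∀ {x : P} {c c' : F}, x - ε (Pi.single 1 c) ∈ R0 H B ε κ κ' →
      x - ε (Pi.single 1 c') ∈ R0 H B ε κ κ' → c = c' := by
    intro x c c' hc1 hc2
    have h1 := (R0 H B ε κ κ').sub_mem hc1 hc2
    have e1 : x - ε (Pi.single 1 c) - (x - ε (Pi.single 1 c')) = ε (Pi.single 1 (c' - c)) := by
      rw [Pi.single_sub, map_sub]
      abel
    rw [e1] at h1
    exact (sub_eq_zero.1 (hc.R0_1 hl h1)).symm
  have hGadd : ∀ a a', G (a + a') = G a + G a' := by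
    intro a a'
    refine huniq (hG (a + a')) ?_
    have h1 := (R0 H B ε κ κ').add_mem ((R0 H B ε κ κ').add_mem (hG a) (hG a')) (hc.FB_R0 (hc.N_KP (hx a') a))
    have e1 : N H a m - ε (Pi.single 1 (G a)) + (N H a' m - ε (Pi.single 1 (G a'))) + N H a (N H a' m) =
        N H (a + a') m - ε (Pi.single 1 (G a + G a')) := by
      rw [h.N_add hm, Pi.single_add, map_add]
      abel
    rwa [e1] at h1
  -- `[r(a), t_a] = a G(a)`
  have hNr : ∀ a, N H a (N H a m - ε (Pi.single 1 (G a))) = ε (Pi.single 0 (a * G a)) := by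
    intro a
    rw [N_sub_right, h.N_N hm, hc.N1, zero_sub]
    exact neg_eq_of_add_eq_zero_left (h.two _)
  set r₁ := N H 1 m - ε (Pi.single 1 (G 1)) with hr₁
  have hr₁R : r₁ ∈ R0 H B ε κ κ' := hG 1
  have hψr : ∀ a, ψ (N H a m - ε (Pi.single 1 (G a))) 0 = a := by
    intro a
    rw [map_sub, hc.ψε, sub_zero, hψx]
  -- `[r₁, t_l] = G(l θ(l))`
  have hkey : ∀ l, N H l r₁ = ε (Pi.single 0 (G (l * θ l))) := by
    intro l
    by_cases hl0 : l = 0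
    · have h1 : G 0 = 0 := by
        have := hGadd 0 0
        rw [add_zero] at this
        exact left_eq_add.1 this
      rw [hl0, zero_mul, h1, N_zero_left, Pi.single_zero, map_zero]
    · have hθl : θ l ≠ 0 := (map_ne_zero θ).2 hl0
      have hk0 : l * θ l ≠ 0 := mul_ne_zero hl0 hθl
      set k : Fˣ := Units.mk0 (l * θ l) hk0 with hk
      have hkv : (k : F) = l * θ l := Units.val_mk0 hk0
      -- `d k r₁ - r(k)` is fixed
      have h1 : H.d k • r₁ - (N H (k : F) m - ε (Pi.single 1 (G k))) ∈ FB H B := by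
        refine hc.R0_ψ hl ((R0 H B ε κ κ').sub_mem (hc.R0_d hr₁R k) (hG k)) ?_
        rw [map_sub]
        show ψ (H.d k • r₁) 0 - ψ (N H (k : F) m - ε (Pi.single 1 (G k))) 0 = 0
        rw [hc.ψ_d, hψr, hψr, mul_one, sub_self]
      have h2 := h.N_FB h1 k
      rw [N_sub_right, hNr, sub_eq_zero] at h2
      have h4 := N_d (H := H) l k r₁
      have e1 : l * (k : F) ^ 2 * (θ k)⁻¹ = k := by
        rw [hkv, map_mul, H.sq]
        field_simp
      rw [e1, h2] at h4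
      have h5 : H.d k⁻¹ • H.d k • N H l r₁ = N H l r₁ := by
        rw [← mul_smul, H.d_mul, inv_mul_cancel, H.d_one, one_smul]
      rw [← h5, ← h4, hc.d0]
      congr 2
      rw [← mul_assoc, Units.inv_mul, one_mul, hkv]
  -- `G = 0`
  have hG0 : ∀ l m, G (l * θ m + m * θ l) = 0 := by
    intro l m'
    have h1 := hc.N_add' hr₁R.1 l m'
    rw [hkey, hkey, hkey, ← map_add, ← Pi.single_add] at h1
    have h2 := hc.inj0 h1
    have e1 : (l + m') * θ (l + m') = l * θ l + (m' * θ m' + (l * θ m' + m' * θ l)) := by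
      rw [map_add]; ring
    rw [e1, hGadd, hGadd] at h2
    linear_combination h2
  have hG0' : ∀ c, G c = 0 := by
    intro c
    obtain ⟨l, m', rfl⟩ := exists_form2 H h3 c
    exact hG0 l m'
  have hr₁F : r₁ ∈ FB H B := by
    refine ⟨hr₁R.1.1, (h.fx_iff hr₁R.1.1).2 fun a => ?_⟩
    rw [hkey, hG0', Pi.single_zero, map_zero]
  by_cases hr0 : ψ r 0 = 0
  · exact hc.R0_ψ hl hr hr0
  · have h1 : r - H.d (Units.mk0 _ hr0) • r₁ ∈ FB H B := by
      refine hc.R0_ψ hl ((R0 H B ε κ κ').sub_mem hr (hc.R0_d hr₁R _)) ?_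
      rw [map_sub]
      show ψ r 0 - ψ (H.d (Units.mk0 _ hr0) • r₁) 0 = 0
      rw [hc.ψ_d, hψr, mul_one, Units.val_mk0, sub_self]
    have h2 := (FB H B).add_mem h1 (h.FB_d hr₁F (Units.mk0 _ hr0))
    rwa [sub_add_cancel] at h2

/-- **CLAIM A, the induction step** -/
theorem fx_of [Finite F] (h3 : 3 ≤ Nat.card F) {a : F} (ha : a ≠ 0) (b : F) {x : P} (hx : x ∈ B)
    (hfix : H.u a b • x = x) : Fx H x := by
  obtain ⟨k, hk0, hk1⟩ := exists_ne_ne h3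
  set κ : Fˣ := Units.mk0 k hk0
  set κ' : Fˣ := Units.mk0 (k + 1) (ne_zero_of_add_one H hk1)
  have hκ : (κ' : F) = κ + 1 := rfl
  have hl : θ κ * (κ : F)⁻¹ + 1 + θ κ' * (κ' : F)⁻¹ ≠ 0 := lam_ne H hk0 hk1
  rw [h.u_eq hx] at hfix
  have hN : N H a x = 0 := N_eq_zero.2 hfix
  obtain ⟨c, hc'⟩ := hc.exists_R0 hκ hl (hc.of_ind1 ha hx hN)
  have h1 := hc.R0_fx h3 hκ hl hc'
  have h2 := h.N_FB h1 a
  rw [N_sub_right, hN, hc.N1, zero_sub, neg_eq_zero, ← map_zero ε, ← Pi.single_zero (0 : Fin 4)] at h2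
  have h4 := (mul_eq_zero.1 (hc.inj0 h2)).resolve_left ha
  rw [h4, Pi.single_zero, map_zero, sub_zero] at h1
  exact h1.2

end Core

end module

end Cfsg.Agent.Omega.NO1.Field.SzA
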